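import Cfsg.Agent.PiClasses73.Tools
import Cfsg.Agent.PiClasses69.Parts

/-!
Splitting classes of `s ∪ t`-elements along the classes of `t`-elements.
-/

set_option autoImplicit false

namespace CfsgLib.PiClasses73

open Subgroup
open CfsgLib.PiClasses (Classes PClasses weighted_count orderOf_eq_of_mem_carrier)

universe u

variable {G : Type u} [Group G] [Finite G]

/-- An element whose order involves only primes of `s`. -/
def IsS (s : Finset ℕ) (x : G) : Prop := ∀ r : ℕ, r.Prime → r ∣ orderOf x → r ∈ s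

omit [Finite G] in
theorem isS_mk {s : Finset ℕ} {x : G} (hx : IsS s x) :
    ∀ z ∈ (ConjClasses.mk x).carrier, ∀ r : ℕ, r.Prime → r ∣ orderOf z → r ∈ s := fun z hz => by
  rw [orderOf_eq_of_mem_carrier hz]; exact hx

omit [Finite G] in
theorem isS_of_class {s : Finset ℕ} (d : Classes s G) {x : G} (h : ConjClasses.mk x = d.1) :
    IsS s x :=
  d.2 x (ConjClasses.mem_carrier_iff_mk_eq.2 h)

omit [Finite G] in
theorem isS_conj {s : Finset ℕ} {x : G} (g : G) (hx : IsS s x) : IsS s (g * x * g⁻¹) :=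
  isS_mk hx _ (ConjClasses.mem_carrier_iff_mk_eq.2
    (ConjClasses.mk_eq_mk_iff_isConj.2 (isConj_iff.2 ⟨g, rfl⟩)).symm)

/-- Classes of `s ∪ t`-elements with a property `P`, sorted by the class of the `t`-part. -/
theorem card_mul_le_sum {s t : Finset ℕ} (hd : Disjoint s t) (P : G → Prop)
    (hP : ∀ g x : G, P x → P (g * x * g⁻¹)) (c : ℕ) [Fintype (Classes t G)]
    (f : Classes t G → ℕ)
    (hf : ∀ (d : Classes t G) (x : G), ConjClasses.mk x = d.1 →
      c * Nat.card {e : Classes s ↥(centralizer ({x} : Set G)) //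
        ∃ v, ConjClasses.mk v = e.1 ∧ P (x * (v : G))} ≤ f d) :
    c * Nat.card {e : Classes (s ∪ t) G // ∃ w, ConjClasses.mk w = e.1 ∧ P w} ≤ ∑ d, f d := by
  classical
  choose rep hrep using fun d : Classes t G => ConjClasses.mk_surjective d.1
  let E := fun d : Classes t G => {e : Classes s ↥(centralizer ({rep d} : Set G)) //
    ∃ v, ConjClasses.mk v = e.1 ∧ P (rep d * (v : G))}
  choose v hv hvP using fun (i : Σ d, E d) => i.2.2
  have hIs : ∀ i : Σ d, E d, IsS (s ∪ t) (rep i.1 * (v i : G)) := by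
    intro i r hr hdv
    have hcm : Commute (rep i.1) (v i : G) := (mem_centralizer_singleton_iff.1 (v i).2).symm
    rcases hr.dvd_mul.1 (hdv.trans hcm.orderOf_mul_dvd_mul_orderOf) with h | h
    · exact Finset.mem_union_right _ (isS_of_class i.1 (hrep i.1) r hr h)
    · exact Finset.mem_union_left _
        (isS_of_class i.2.1 (hv i) r hr (by rwa [orderOf_coe] at h))
  let F : (Σ d, E d) → {e : Classes (s ∪ t) G // ∃ w, ConjClasses.mk w = e.1 ∧ P w} := fun i =>
    ⟨⟨ConjClasses.mk (rep i.1 * (v i : G)), isS_mk (hIs i)⟩, _, rfl, hvP i⟩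
  have hF : Function.Surjective F := by
    intro e0
    obtain ⟨w, hw, hPw⟩ := e0.2
    obtain ⟨⟨C, hC⟩, hC'⟩ := e0
    change ConjClasses.mk w = C at hw
    subst hw
    have hwS : IsS (s ∪ t) w := hC w ConjClasses.mem_carrier_mk
    obtain ⟨e, -, -, he⟩ := CfsgLib.PiClasses69.exists_exponent G (↑t : Set ℕ)
    obtain ⟨hxt, f', hyt, hsplit⟩ := he w
    set x := w ^ e
    set y := w ^ f'
    have hys : IsS s y := fun r hr hdv => by
      rcases Finset.mem_union.1 (hwS r hr (hdv.trans (orderOf_pow_dvd f'))) with h | h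
      · exact h
      · exact absurd h (hyt r hr hdv)
    have hcomm : Commute x y := ((Commute.refl w).pow_pow e f')
    let d : Classes t G := ⟨ConjClasses.mk x, isS_mk hxt⟩
    obtain ⟨g, hg⟩ := isConj_iff.1 (ConjClasses.mk_eq_mk_iff_isConj.1 (hrep d).symm)
    have hmem : g * y * g⁻¹ ∈ centralizer ({rep d} : Set G) := by
      rw [mem_centralizer_singleton_iff, ← hg]
      calc g * y * g⁻¹ * (g * x * g⁻¹) = g * (y * x) * g⁻¹ := by group
        _ = g * (x * y) * g⁻¹ := by rw [hcomm.eq]
        _ = g * x * g⁻¹ * (g * y * g⁻¹) := by group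
    have hSc : IsS s (⟨g * y * g⁻¹, hmem⟩ : ↥(centralizer ({rep d} : Set G))) := by
      intro r hr hdv
      rw [orderOf_mk] at hdv
      exact isS_conj g hys r hr hdv
    have hPc : P (rep d * (g * y * g⁻¹)) := by
      have h1 : rep d * (g * y * g⁻¹) = g * w * g⁻¹ := by
        rw [← hg, hsplit]; group
      rw [h1]
      exact hP g w hPw
    let i : Σ d, E d := ⟨d, ⟨ConjClasses.mk ⟨g * y * g⁻¹, hmem⟩, isS_mk hSc⟩, _, rfl, hPc⟩
    refine ⟨i, Subtype.ext (Subtype.ext (ConjClasses.mk_eq_mk_iff_isConj.2 ?_))⟩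
    obtain ⟨h, hh⟩ := isConj_iff.1 (ConjClasses.mk_eq_mk_iff_isConj.1 (hv i))
    have hh' : (h : G) * (v i : G) * (h : G)⁻¹ = g * y * g⁻¹ := congrArg Subtype.val hh
    have hc : (h : G) * rep d = rep d * (h : G) := mem_centralizer_singleton_iff.1 h.2
    refine isConj_iff.2 ⟨g⁻¹ * (h : G), ?_⟩
    show g⁻¹ * (h : G) * (rep d * (v i : G)) * (g⁻¹ * (h : G))⁻¹ = w
    calc g⁻¹ * (h : G) * (rep d * (v i : G)) * (g⁻¹ * (h : G))⁻¹
        = g⁻¹ * (((h : G) * rep d) * (v i : G) * (h : G)⁻¹) * g := by group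
      _ = g⁻¹ * (rep d * ((h : G) * (v i : G) * (h : G)⁻¹)) * g := by rw [hc]; group
      _ = g⁻¹ * (rep d * (g * y * g⁻¹)) * g := by rw [hh']
      _ = x * y := by rw [← hg]; group
      _ = w := hsplit.symm
  calc c * Nat.card _ ≤ c * Nat.card (Σ d, E d) :=
        Nat.mul_le_mul_left c (Nat.card_le_card_of_surjective F hF)
    _ = ∑ d, c * Nat.card (E d) := by rw [Nat.card_sigma, Finset.mul_sum]
    _ ≤ ∑ d, f d := Finset.sum_le_sum fun d _ => hf d _ (hrep d)

/-- Sorting all classes of `s ∪ t`-elements by the class of the `t`-part. -/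
theorem card_classes_le_sum {s t : Finset ℕ} (hd : Disjoint s t) (c : ℕ) [Fintype (Classes t G)]
    (f : Classes t G → ℕ)
    (hf : ∀ (d : Classes t G) (x : G), ConjClasses.mk x = d.1 →
      c * Nat.card (Classes s ↥(centralizer ({x} : Set G))) ≤ f d) :
    c * Nat.card (Classes (s ∪ t) G) ≤ ∑ d, f d := by
  have h := card_mul_le_sum hd (fun _ => True) (fun _ _ _ => trivial) c f fun d x hx =>
    (Nat.mul_le_mul_left c (Nat.card_le_card_of_injective Subtype.val
      Subtype.val_injective)).trans (hf d x hx)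
  refine le_trans (Nat.mul_le_mul_left c (Nat.card_le_card_of_injective
    (fun e => (⟨e, e.1.exists_rep.imp fun w hw => ⟨hw, trivial⟩⟩ :
      {e : Classes (s ∪ t) G // ∃ w, ConjClasses.mk w = e.1 ∧ True})) ?_)) h
  intro a b hab
  exact congrArg Subtype.val hab

/-- Adjoining primes multiplies the number of classes at most by their part of the order. -/
theorem card_classes_union_le {s t : Finset ℕ} (hs : ∀ r ∈ s, r.Prime) (hd : Disjoint s t) :
    Nat.card (Classes (s ∪ t) G) ≤ Nat.card (Classes t G) * part s G := by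
  have : Fintype (Classes t G) := Fintype.ofFinite _
  have h := card_classes_le_sum hd 1 (fun _ => part s G) fun d x _ => by
    rw [one_mul]
    exact (CfsgLib.PiClasses.card_classes_le s hs _).trans (part_subgroup_le hs _)
  simpa [Nat.card_eq_fintype_card] using h

/-- A large number of classes passes to a subset of the primes. -/
theorem mono {s t : Finset ℕ} (hs : ∀ r ∈ s, r.Prime) (hts : t ⊆ s) {p : ℕ}
    (h : part s G < p * Nat.card (Classes s G)) : part t G < p * Nat.card (Classes t G) := by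
  have hd : Disjoint (s \ t) t := Finset.sdiff_disjoint
  have he : s \ t ∪ t = s := Finset.sdiff_union_of_subset hts
  have h1 := card_classes_union_le (G := G) (fun r hr => hs r (Finset.mem_sdiff.1 hr).1) hd
  have h2 := part_union (G := G) hd
  rw [he] at h1 h2
  rw [h2] at h
  by_contra hle
  push Not at hle
  nlinarith [Nat.mul_le_mul_left p h1, Nat.mul_le_mul_right (part (s \ t) G) hle]

/-- A `q`-element of a subgroup is conjugate in it into any given Sylow `q`-subgroup. -/
theorem exists_conj_into {q : ℕ} [Fact q.Prime] {C : Subgroup G} (S : Sylow q C) {z : G}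
    (hz : z ∈ C) (hzq : ∃ k, orderOf z = q ^ k) :
    ∃ c ∈ C, c * z * c⁻¹ ∈ (S : Subgroup C).map C.subtype := by
  obtain ⟨k, hk⟩ := hzq
  have hW : IsPGroup q (zpowers (⟨z, hz⟩ : C)) :=
    IsPGroup.of_card (n := k) (by rw [Nat.card_zpowers, orderOf_mk, hk])
  obtain ⟨T, hT⟩ := hW.exists_le_sylow
  obtain ⟨c, rfl⟩ := MulAction.exists_smul_eq C S T
  have hm : (⟨z, hz⟩ : C) ∈ ((c • S : Sylow q C) : Subgroup C) := hT (mem_zpowers _)
  rw [Sylow.coe_subgroup_smul] at hm
  obtain ⟨a, ha, hae⟩ := hm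
  refine ⟨(c : G)⁻¹, inv_mem c.2, a, ha, ?_⟩
  have e : (c : G) * a * (c : G)⁻¹ = z := congrArg Subtype.val hae
  show (a : G) = _
  rw [← e]; group

/-- A sum of a constant and an extra weight on a subset. -/
theorem sum_add_ite {α : Type*} [Fintype α] (F : α → Prop) [DecidablePred F] (A B : ℕ) :
    ∑ d, (A + if F d then B else 0) = Nat.card α * A + Nat.card {d // F d} * B := by
  rw [Finset.sum_add_distrib, Finset.sum_const, Finset.card_univ, smul_eq_mul,
    ← Finset.sum_filter, Finset.sum_const, smul_eq_mul, Nat.card_eq_fintype_card,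
    Nat.card_eq_fintype_card, Fintype.card_subtype]

end CfsgLib.PiClasses73
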