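import Cfsg.Agent.PiClasses73.Main
import Cfsg.Agent.Breadth.Bound
import Cfsg.Agent.GroupBasics.Conjugates

/-!
Many conjugacy classes bound the derived subgroup of a nilpotent Hall subgroup.
-/

set_option autoImplicit false

namespace CfsgLib.PiClasses73

open Subgroup
open CfsgLib.PiClasses (Classes PClasses weighted_count orderOf_eq_of_mem_carrier)

universe u

variable {G : Type u} [Group G] [Finite G]

theorem card_fibre_mk (x : G) :
    Nat.card {y // ConjClasses.mk y = ConjClasses.mk x} = (centralizer ({x} : Set G)).index := by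
  rw [← CfsgLib.GroupBasics.card_carrier_eq_index_centralizer, ← Nat.card_coe_set_eq]
  exact Nat.card_congr (Equiv.subtypeEquivRight fun y => ConjClasses.mem_carrier_iff_mk_eq.symm)

/-- A `p`-group with a class of size at least `p ^ 2` has at most `|G| / p` classes. -/
theorem card_conjClasses_le_of_breadth {p : ℕ} [hp : Fact p.Prime] (hG : IsPGroup p G) {x : G}
    (hx : p < (centralizer ({x} : Set G)).index) :
    p * Nat.card (ConjClasses G) ≤ Nat.card G := by
  classical
  have hsq : ∀ y : G, p < (centralizer ({y} : Set G)).index →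
      p * p ≤ (centralizer ({y} : Set G)).index := by
    intro y hy
    obtain ⟨i, hi⟩ := hG.index (centralizer ({y} : Set G))
    rw [hi] at hy ⊢
    rw [← sq]
    refine Nat.pow_le_pow_right hp.out.pos ?_
    by_contra hlt
    have := hp.out.one_lt
    rcases (show i = 0 ∨ i = 1 by omega) with rfl | rfl <;> simp only [pow_zero, pow_one] at hy <;>
      omega
  set Z := center G
  let B : G → Prop := fun y => p < (centralizer ({y} : Set G)).index
  have hxZ : x ∉ Z := fun h => by
    rw [centralizer_eq_top_iff_subset.2 (Set.singleton_subset_iff.2 h), index_top] at hx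
    exact absurd hx (not_lt.2 hp.out.one_lt.le)
  -- the powers of `x` prime to `p`
  have hcen : ∀ (y z : G), z ∈ Z →
      centralizer ({y * z} : Set G) = centralizer ({y} : Set G) := by
    intro y z hz
    ext g
    simp only [mem_centralizer_singleton_iff]
    rw [← mul_assoc, mul_assoc y z g, ← (mem_center_iff.1 hz g), ← mul_assoc]
    exact mul_left_inj z
  have hBpow : ∀ (i : ℕ), ¬ p ∣ i → ∀ z ∈ Z, B (x ^ i * z) := by
    intro i hi z hz
    obtain ⟨k, hk⟩ := IsPGroup.iff_orderOf.1 hG x
    obtain ⟨u, hu⟩ := exists_pow_eq_self_of_coprime (n := i) (x := x)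
      (by rw [hk]; exact ((hp.out.coprime_iff_not_dvd.2 hi).pow_left k).symm)
    show p < _
    rw [hcen _ _ hz]
    refine lt_of_lt_of_le hx ?_
    refine Nat.le_of_dvd (Nat.pos_of_ne_zero index_ne_zero_of_finite) (index_dvd_of_le ?_)
    intro g hg
    rw [mem_centralizer_singleton_iff] at hg ⊢
    rw [← hu]
    exact (Commute.pow_right hg u).eq
  -- a further element of breadth at least two
  set M := zpowers x ⊔ Z
  obtain ⟨y, hyM, hy⟩ : ∃ y, y ∉ M ∧ B y := by
    by_contra hno
    push Not at hno
    have hM : ∀ y, y ∉ M → x ∈ centralizer ({y} : Set G) := by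
      intro y hy
      have hxy : x * y ∉ M := fun h => hy ((mul_mem_cancel_left
        (mem_sup_left (mem_zpowers x))).1 h)
      have h1 : ¬ p < (centralizer ({y} : Set G)).index := hno y hy
      have h2 : ¬ p < (centralizer ({x * y} : Set G)).index := hno _ hxy
      have hle : centralizer ({x * y} : Set G) ⊓ centralizer ({y} : Set G) ≤
          centralizer ({x} : Set G) := by
        intro g hg
        obtain ⟨ha, hb⟩ := hg
        have ha' : Commute g (x * y) := mem_centralizer_singleton_iff.1 ha
        have hb' : Commute g y := mem_centralizer_singleton_iff.1 hb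
        refine mem_centralizer_singleton_iff.2 ?_
        have := (ha'.mul_right hb'.inv_right).eq
        rwa [mul_inv_cancel_right] at this
      have h3 : (centralizer ({x * y} : Set G) ⊓ centralizer ({y} : Set G)).index ≤ p * p :=
        index_inf_le.trans (Nat.mul_le_mul (not_lt.1 h2) (not_lt.1 h1))
      have hxx : x ∈ centralizer ({x} : Set G) := mem_centralizer_singleton_iff.2 rfl
      have heq : centralizer ({x * y} : Set G) ⊓ centralizer ({y} : Set G) =
          centralizer ({x} : Set G) := by
        refine eq_of_le_of_card_ge hle ?_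
        have h4 := h3.trans (hsq x hx)
        have e1 := card_mul_index (centralizer ({x * y} : Set G) ⊓ centralizer ({y} : Set G))
        have e2 := card_mul_index (centralizer ({x} : Set G))
        have hpos : 0 < (centralizer ({x} : Set G)).index :=
          Nat.pos_of_ne_zero index_ne_zero_of_finite
        refine Nat.le_of_mul_le_mul_right ?_ hpos
        rw [e2, ← e1]
        exact Nat.mul_le_mul_left _ h4
      exact (heq.ge hxx).2
    have hMC : M ≤ centralizer ({x} : Set G) := sup_le
      (zpowers_le.2 (mem_centralizer_singleton_iff.2 rfl)) (center_le_centralizer _)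
    refine hxZ (mem_center_iff.2 fun g => ?_)
    by_cases hg : g ∈ M
    · exact mem_centralizer_singleton_iff.1 (hMC hg)
    · exact (mem_centralizer_singleton_iff.1 (hM g hg)).symm
  -- hence many elements of breadth at least two
  let c : Fin p → G := fun i => if (i : ℕ) = 0 then y else x ^ (i : ℕ)
  have hcB : ∀ i, ∀ z ∈ Z, B (c i * z) := by
    intro i z hz
    by_cases hi : (i : ℕ) = 0
    · simp only [c, if_pos hi]
      show p < _
      rw [hcen _ _ hz]; exact hy
    · simp only [c, if_neg hi]
      exact hBpow _ (Nat.not_dvd_of_pos_of_lt (Nat.pos_of_ne_zero hi) i.2) z hz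
  have hinj : Function.Injective fun d : Fin p × Z =>
      (⟨c d.1 * d.2, hcB d.1 d.2 d.2.2⟩ : {y // B y}) := by
    rintro ⟨i, z⟩ ⟨j, w⟩ h
    simp only [Subtype.mk.injEq] at h
    have hij : (i : ℕ) = j := by
      have hpw : ∀ a b : ℕ, a < b → b < p → ∀ z w : Z, x ^ a * (z : G) = x ^ b * w → False := by
        intro a b hab hb z w h'
        have : x ^ (b - a) ∈ Z := by
          have hb' : x ^ b = x ^ a * x ^ (b - a) := by rw [← pow_add]; congr 1; omega
          rw [hb', mul_assoc, mul_right_inj] at h'
          have := mul_mem z.2 (inv_mem w.2)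
          rwa [h', mul_inv_cancel_right] at this
        have hB := hBpow (b - a) (Nat.not_dvd_of_pos_of_lt (by omega) (by omega)) 1 (one_mem Z)
        rw [mul_one] at hB
        change p < _ at hB
        rw [centralizer_eq_top_iff_subset.2 (Set.singleton_subset_iff.2 this), index_top] at hB
        exact absurd hB (not_lt.2 hp.out.one_lt.le)
      have hy' : ∀ (k : ℕ) (z w : Z), y * (z : G) = x ^ k * w → False := by
        intro k z w h'
        apply hyM
        rw [eq_mul_inv_of_mul_eq h']
        exact mul_mem (mul_mem (mem_sup_left (pow_mem (mem_zpowers x) k)) (mem_sup_right w.2))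
          (mem_sup_right (inv_mem z.2))
      simp only [c] at h
      rcases eq_or_ne (i : ℕ) 0 with hi | hi <;> rcases eq_or_ne (j : ℕ) 0 with hj | hj
      · omega
      · rw [if_pos hi, if_neg hj] at h
        exact (hy' _ _ _ h).elim
      · rw [if_neg hi, if_pos hj] at h
        exact (hy' _ _ _ h.symm).elim
      · rw [if_neg hi, if_neg hj] at h
        rcases lt_trichotomy (i : ℕ) j with hlt | he | hgt
        · exact (hpw _ _ hlt j.2 z w h).elim
        · exact he
        · exact (hpw _ _ hgt i.2 w z h.symm).elim
    obtain rfl : i = j := Fin.ext hij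
    exact Prod.ext rfl (Subtype.ext (mul_left_cancel h))
  have hBZ : p * Nat.card Z ≤ Nat.card {y // B y} := by
    have := Nat.card_le_card_of_injective _ hinj
    rwa [Nat.card_prod, Nat.card_fin] at this
  -- count
  have : Fintype G := Fintype.ofFinite _
  let w : G → ℕ := fun a => if a ∈ Z then p * p else if B a then 1 else p
  have hw := weighted_count (ConjClasses.mk : G → ConjClasses G) ConjClasses.mk_surjective (p * p) w
    fun a => by
      rw [card_fibre_mk]
      simp only [w]
      split_ifs with hz hb
      · exact Nat.le_mul_of_pos_right _ (Nat.pos_of_ne_zero index_ne_zero_of_finite)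
      · rw [one_mul]; exact hsq a hb
      · refine Nat.mul_le_mul_left p (Nat.le_of_dvd (Nat.pos_of_ne_zero index_ne_zero_of_finite) ?_)
        obtain ⟨i, hi⟩ := hG.index (centralizer ({a} : Set G))
        rw [hi]
        refine dvd_pow_self p fun h0 => hz ?_
        rw [h0, pow_zero, index_eq_one, centralizer_eq_top_iff_subset] at hi
        exact hi rfl
  have hdis : ∀ a, a ∈ Z → ¬ B a := fun a ha hb => by
    change p < _ at hb
    rw [centralizer_eq_top_iff_subset.2 (Set.singleton_subset_iff.2 ha), index_top] at hb
    exact absurd hb (not_lt.2 hp.out.one_lt.le)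
  have hsum : ∑ a, w a + p * Nat.card {y // B y} + p * Nat.card Z =
      p * Nat.card G + p * p * Nat.card Z + Nat.card {y // B y} := by
    have hz : Nat.card Z = ∑ a : G, (if a ∈ Z then 1 else 0) := by
      rw [← Finset.card_filter, Nat.card_eq_fintype_card, Fintype.card_subtype]
    have hb : Nat.card {y // B y} = ∑ a : G, (if B a then 1 else 0) := by
      rw [← Finset.card_filter, Nat.card_eq_fintype_card, Fintype.card_subtype]
    rw [hz, hb, Nat.card_eq_fintype_card, Fintype.card_eq_sum_ones, Finset.mul_sum, Finset.mul_sum,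
      Finset.mul_sum, Finset.mul_sum, ← Finset.sum_add_distrib, ← Finset.sum_add_distrib,
      ← Finset.sum_add_distrib, ← Finset.sum_add_distrib]
    refine Finset.sum_congr rfl fun a _ => ?_
    simp only [w]
    split_ifs with h1 h2 <;> first
      | exact absurd h2 (hdis a h1)
      | ring
  refine Nat.le_of_mul_le_mul_left ?_ hp.out.pos
  rw [← mul_assoc]
  refine hw.trans ?_
  -- `(p - 1) p |Z| ≤ (p - 1) |B|`
  have h5 := Nat.mul_le_mul_left (p - 1) hBZ
  have hp1 : p = p - 1 + 1 := by have := hp.out.one_lt; omega
  generalize p - 1 = q at h5 hp1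
  subst hp1
  simp only [add_mul, mul_add, one_mul, mul_one, mul_assoc] at hsum h5 ⊢
  omega

/-- A `p`-group with more than `|G| / p` classes has derived subgroup of order at most `p`. -/
theorem card_commutator_le_of_many {p : ℕ} [Fact p.Prime] (hG : IsPGroup p G)
    (h : Nat.card G < p * Nat.card (ConjClasses G)) : Nat.card (commutator G) ≤ p := by
  have := CfsgLib.Breadth.card_commutator_le hG 1 fun x => by
    rw [pow_one]
    by_contra hlt
    exact absurd (card_conjClasses_le_of_breadth hG (not_le.1 hlt)) (not_le.2 h)
  simpa using this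

/-- The derived subgroup of a nilpotent group is bounded by those of its Sylow subgroups. -/
theorem card_commutator_le_of_sylow [Group.IsNilpotent G] (p c : ℕ) (hc : 1 ≤ c)
    (h : ∀ (r : ℕ) (R : Sylow r G), r ∈ (Nat.card G).primeFactors →
      (r ≠ p → IsMulCommutative (R : Subgroup G)) ∧ Nat.card (commutator (R : Subgroup G)) ≤ c) :
    Nat.card (commutator G) ≤ c := by
  classical
  obtain ⟨φ⟩ := (Group.isNilpotent_of_finite_tfae (G := G)).out 0 4 |>.1 ‹_›
  set ι := Σ r : (Nat.card G).primeFactors, Sylow r G
  let X : ι → Type u := fun i => ((i.2 : Subgroup G) : Type u)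
  let e : (∀ i : ι, (i.2 : Subgroup G)) ≃* G :=
    ({ Equiv.piCurry (fun (r : (Nat.card G).primeFactors) (P : Sylow r G) => (P : Subgroup G)) with
        map_mul' := fun _ _ => rfl } : _ ≃* _).trans φ
  have hle : commutator G ≤
      (Subgroup.pi Set.univ fun i : ι => commutator (i.2 : Subgroup G)).map e.toMonoidHom := by
    have htop : Subgroup.pi Set.univ (fun i : ι => (⊤ : Subgroup (i.2 : Subgroup G))) = ⊤ := by
      ext f; simp [Subgroup.mem_pi]
    have h1 := Subgroup.commutator_pi_pi_le (fun i : ι => (⊤ : Subgroup (i.2 : Subgroup G)))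
      (fun i : ι => (⊤ : Subgroup (i.2 : Subgroup G)))
    rw [htop] at h1
    have h2 := Subgroup.map_mono (f := e.toMonoidHom) h1
    rw [map_commutator, map_top_of_surjective _ e.surjective] at h2
    exact h2
  refine (Subgroup.card_le_of_le hle).trans ?_
  rw [card_map_of_injective e.injective]
  have : Fintype ι := Fintype.ofFinite _
  have hpi : Nat.card (Subgroup.pi Set.univ fun i : ι => commutator (i.2 : Subgroup G)) =
      ∏ i : ι, Nat.card (commutator (i.2 : Subgroup G)) := by
    rw [← Nat.card_pi]
    exact Nat.card_congr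
      { toFun := fun f i => ⟨f.1 i, f.2 i trivial⟩
        invFun := fun f => ⟨fun i => (f i).1, fun i _ => (f i).2⟩
        left_inv := fun f => rfl
        right_inv := fun f => rfl }
  rw [hpi]
  have hone : ∀ i : ι, (i.1 : ℕ) ≠ p → Nat.card (commutator (i.2 : Subgroup G)) = 1 := by
    intro i hi
    have := (h _ i.2 i.1.2).1 hi
    rw [card_eq_one, commutator_def, eq_bot_iff, commutator_le]
    intro a _ b _
    rw [mem_bot, commutatorElement_eq_one_iff_commute]
    exact this.is_comm.comm a b
  have hsub : ∀ i j : ι, (i.1 : ℕ) = p → (j.1 : ℕ) = p → i = j := by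
    rintro ⟨⟨r, hr⟩, P⟩ ⟨⟨r', hr'⟩, P'⟩ rfl he
    change r' = r at he
    subst he
    have := Fact.mk (Nat.prime_of_mem_primeFactors hr')
    have := Sylow.unique_of_normal P inferInstance
    rw [Subsingleton.elim P P']
  by_cases hex : ∃ i : ι, (i.1 : ℕ) = p
  · obtain ⟨i, hi⟩ := hex
    rw [Finset.prod_eq_single i (fun j _ hj => hone j fun he => hj (hsub j i he hi))
      (fun hh => absurd (Finset.mem_univ i) hh)]
    exact (h _ i.2 i.1.2).2
  · push Not at hex
    rw [Finset.prod_eq_one fun i _ => hone i (hex i)]
    exact hc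

end CfsgLib.PiClasses73
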