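import Cfsg.Agent.PiClasses73.Count
import Mathlib.GroupTheory.IndexNormal

/-!
Local lemmas for groups with a normal complement, and bounds on classes of `q`-elements.
-/

set_option autoImplicit false

namespace CfsgLib.PiClasses73

open Subgroup
open Cfsg (HasNormalPComplement pResidual)
open CfsgLib.PiClasses (Classes PClasses)

universe u

variable {G : Type u} [Group G] [Finite G]

/-- A Sylow subgroup with many classes is commutative. -/
theorem commutative_of_large {q : ℕ} [Fact q.Prime] (Q : Sylow q G)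
    (h : 2 * Nat.card (Q : Subgroup G) < q * Nat.card (PClasses q G)) :
    IsMulCommutative (Q : Subgroup G) := by
  by_contra hQ
  obtain ⟨z, hz, hk⟩ := CfsgLib.PiClasses.card_classes_nonabelian_le Q hQ
  have hq : q * z ≤ q * q * z :=
    Nat.mul_le_mul_right z (Nat.le_mul_of_pos_right q (Fact.out : q.Prime).pos)
  omega

/-- A non-centralized normalizer of a Sylow subgroup bounds the number of classes. -/
theorem pclasses_bound {q : ℕ} [Fact q.Prime] (Q : Sylow q G) {g : G}
    (hgN : g ∈ normalizer ((Q : Subgroup G) : Set G))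
    (hgC : g ∉ centralizer ((Q : Subgroup G) : Set G)) :
    2 * q * Nat.card (PClasses q G) ≤ (q + 1) * Nat.card (Q : Subgroup G) := by
  have hsum := CfsgLib.PiClasses.count_of_witness Q le_rfl inf_le_left hgN 2 2 1 2
    (CfsgLib.PiClasses.orbit_two g _) le_rfl (Nat.le_mul_of_pos_right 2 (Fact.out : q.Prime).pos)
  obtain ⟨i, hi0, hi⟩ := CfsgLib.PiClasses.fixed_lt Q.isPGroup' hgC
  have hc : q * Nat.card ↥((Q : Subgroup G) ⊓ centralizer ({g} : Set G))
      ≤ Nat.card (Q : Subgroup G) := by
    rw [← hi, mul_comm q]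
    exact Nat.mul_le_mul_left _ (Nat.le_self_pow hi0 q)
  have h2 : 2 * Nat.card (PClasses q G)
      ≤ Nat.card (Q : Subgroup G) + Nat.card ↥((Q : Subgroup G) ⊓ centralizer ({g} : Set G)) := by
    omega
  nlinarith [Nat.mul_le_mul_left q h2]

/-- Burnside. -/
theorem complement_of_le_centralizer {q : ℕ} [Fact q.Prime] (Q : Sylow q G)
    (h : normalizer ((Q : Subgroup G) : Set G) ≤ centralizer ((Q : Subgroup G) : Set G)) :
    HasNormalPComplement q G :=
  ⟨Q, _, inferInstance, MonoidHom.ker_transferSylow_isComplement' Q h⟩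

/-- In a `q`-nilpotent group, a Sylow `q`-subgroup normalizes a given nilpotent Hall subgroup for
other primes. -/
theorem normalizer_hall {q : ℕ} [Fact q.Prime] (hG : HasNormalPComplement q G) {s : Finset ℕ}
    (hs : ∀ r ∈ s, r.Prime) (hqs : q ∉ s) {M : Subgroup G} (hM : Nat.card M = part s G)
    (hMn : Group.IsNilpotent M) :
    ∃ Q : Sylow q G, (Q : Subgroup G) ≤ normalizer (M : Set G) := by
  set K := pResidual q G with hKdef
  have hK : ¬ q ∣ Nat.card K := CfsgLib.Transfer.hasNormalPComplement_iff.1 hG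
  have hco : ¬ q ∣ Nat.card M := fun hd =>
    hqs (mem_of_prime_dvd_part hs Fact.out (hM ▸ hd))
  have hMK : M ≤ K := fun x hx =>
    CfsgLib.Transfer.mem_pResidual_of_coprime (CfsgLib.Transfer.coprime_orderOf_of_mem hco hx)
  refine exists_sylow_le_normalizer K M hK fun g => ?_
  have hM'K : M.map (MulAut.conj g).toMonoidHom ≤ K := by
    rintro _ ⟨x, hx, rfl⟩
    exact (inferInstance : K.Normal).conj_mem x (hMK hx) g
  set M' := M.map (MulAut.conj g).toMonoidHom
  have hc : Nat.card M' = Nat.card M := card_map_of_injective (MulAut.conj g).injective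
  obtain ⟨k, hk⟩ := CfsgLib.Transfer.exists_map_conj_eq_of_nilpotent_hall (M.subgroupOf K)
    (M'.subgroupOf K) (Group.isNilpotent_congr (subgroupOfEquivOfLe hMK) |>.2 hMn)
    (Group.isNilpotent_congr (subgroupOfEquivOfLe hM'K) |>.2
      (Group.isNilpotent_congr (M.equivMapOfInjective _ (MulAut.conj g).injective) |>.1 hMn))
    (by rw [Nat.card_congr (subgroupOfEquivOfLe hMK).toEquiv,
      Nat.card_congr (subgroupOfEquivOfLe hM'K).toEquiv, hc])
    (by
      rw [Nat.card_congr (subgroupOfEquivOfLe hMK).toEquiv]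
      refine (coprime_card_index hs hM).coprime_dvd_right ?_
      exact (dvd_mul_right _ _).trans (relIndex_mul_index hMK).dvd)
  refine ⟨k, k.2, ?_⟩
  have := congrArg (Subgroup.map K.subtype) hk
  rw [map_subgroupOf_eq_of_le hM'K, map_map] at this
  rw [← this]
  conv_rhs => rw [← map_subgroupOf_eq_of_le hMK, map_map]
  rfl

/-- A nilpotent Hall subgroup for two primes gives full centralizers. -/
theorem full_centralizer {a b : ℕ} [Fact a.Prime] [Fact b.Prime] (hab : a ≠ b)
    (h : HasNilHall {a, b} G) (P : Sylow a G) :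
    ∃ Q : Sylow b G, (Q : Subgroup G) ≤ centralizer ((P : Subgroup G) : Set G) := by
  by_cases ha : a ∣ Nat.card G
  swap
  · obtain ⟨Q⟩ : Nonempty (Sylow b G) := Sylow.nonempty
    refine ⟨Q, fun x _ z hz => ?_⟩
    have h1 : (P : Subgroup G) = ⊥ := by
      apply card_eq_one.1
      rw [P.card_eq_multiplicity, Nat.factorization_eq_zero_of_not_dvd ha, pow_zero]
    have hz' : z ∈ (P : Subgroup G) := hz
    rw [h1, mem_bot] at hz'
    rw [hz', one_mul, mul_one]
  obtain ⟨H, hH, hHn⟩ := h
  have hpr : ∀ r ∈ ({a, b} : Finset ℕ), r.Prime := by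
    intro r hr
    rcases Finset.mem_insert.1 hr with rfl | hr
    · exact Fact.out
    · rw [Finset.mem_singleton.1 hr]; exact Fact.out
  rw [part_insert (by simpa using hab), part_singleton] at hH
  have hpart : Nat.card H = part {a, b} G := by
    rw [hH, part_insert (by simpa using hab), part_singleton]
  obtain ⟨P₂, H₀, -, -, hH₀C, -, hcard⟩ := CfsgLib.Transfer.exists_nilpotent_hall_decomposition
    (p := a) H hHn (coprime_card_index hpr hpart)
    (hH ▸ Dvd.dvd.mul_right (dvd_pow_self a
      (((Fact.out : a.Prime).factorization_pos_of_dvd Nat.card_pos.ne' ha).ne')) _)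
  have hH₀ : Nat.card H₀ = b ^ (Nat.card G).factorization b := by
    rw [P₂.card_eq_multiplicity, hH, mul_comm] at hcard
    exact mul_left_cancel₀ (pow_pos (Fact.out : a.Prime).pos _).ne' hcard
  obtain ⟨g, rfl⟩ := MulAction.exists_smul_eq G P₂ P
  refine ⟨g • Sylow.ofCard H₀ hH₀, ?_⟩
  rw [Sylow.coe_subgroup_smul, Sylow.coe_ofCard, Sylow.coe_subgroup_smul]
  rintro _ ⟨x, hx, rfl⟩ _ ⟨z, hz, rfl⟩
  show g * z * g⁻¹ * (g * x * g⁻¹) = g * x * g⁻¹ * (g * z * g⁻¹)
  calc g * z * g⁻¹ * (g * x * g⁻¹) = g * (z * x) * g⁻¹ := by group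
    _ = g * (x * z) * g⁻¹ := by rw [hH₀C hx z hz]
    _ = g * x * g⁻¹ * (g * z * g⁻¹) := by group

theorem part_dvd_card (s : Finset ℕ) (hs : ∀ r ∈ s, r.Prime) : part s G ∣ Nat.card G := by
  induction s using Finset.induction with
  | empty => simp [part]
  | @insert q s hqs ih =>
    have hs' : ∀ r ∈ s, r.Prime := fun r hr => hs r (Finset.mem_insert_of_mem hr)
    have hq := hs q (Finset.mem_insert_self q s)
    rw [part_insert hqs]
    refine Nat.Coprime.mul_dvd_of_dvd_of_dvd ?_ (Nat.ordProj_dvd _ _) (ih hs')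
    exact Nat.Coprime.pow_left _ (hq.coprime_iff_not_dvd.2 fun hd =>
      hqs (mem_of_prime_dvd_part hs' hq hd))

/-- An element normalizing a nilpotent Hall subgroup centralises it, if each of its Sylow
subgroups has a full centralizer. -/
theorem centralizes_hall {q : ℕ} [Fact q.Prime] {t : Finset ℕ} (ht : ∀ r ∈ t, r.Prime)
    (hqt : q ∉ t) (hfull : ∀ u ∈ t, HasNilHall {u, q} G) {M : Subgroup G}
    (hM : Nat.card M = part t G) (hMn : Group.IsNilpotent M) {y : G}
    (hy : y ∈ normalizer (M : Set G)) (hyq : ∃ k, orderOf y = q ^ k) :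
    y ∈ centralizer (M : Set G) := by
  set F := M ⊓ centralizer ({y} : Set G) with hFdef
  have hF : ∀ u ∈ t, (Nat.card F).factorization u = (Nat.card G).factorization u := by
    intro u hu
    have := Fact.mk (ht u hu)
    refine le_antisymm (factorization_le F u) ?_
    by_cases hud : u ∣ Nat.card G
    swap
    · rw [Nat.factorization_eq_zero_of_not_dvd hud]; exact Nat.zero_le _
    have huM : u ∣ Nat.card M := by
      rw [hM]
      refine (dvd_pow_self u ?_).trans
        (Finset.dvd_prod_of_mem (fun r => r ^ (Nat.card G).factorization r) hu)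
      exact ((ht u hu).factorization_pos_of_dvd Nat.card_pos.ne' hud).ne'
    obtain ⟨P, H₀, hPM, -, hH₀C, hsup, -⟩ := CfsgLib.Transfer.exists_nilpotent_hall_decomposition
      (p := u) M hMn (coprime_card_index ht hM) huM
    have hMN : M ≤ normalizer ((P : Subgroup G) : Set G) := by
      rw [← hsup]
      exact sup_le le_normalizer (hH₀C.trans (centralizer_le_normalizer _))
    have hmap : ∀ z ∈ (P : Subgroup G), y * z * y⁻¹ ∈ (P : Subgroup G) := by
      intro z hz
      have hzM : y * z * y⁻¹ ∈ M := (mem_normalizer_iff.1 hy z).1 (hPM hz)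
      refine CfsgLib.NilpotentCover.mem_sylow_of_mem_normalizer P ?_ (hMN hzM)
      obtain ⟨i, hi⟩ := IsPGroup.iff_orderOf.1 P.isPGroup' ⟨z, hz⟩
      rw [orderOf_mk] at hi
      exact ⟨i, by rw [show orderOf (y * z * y⁻¹) = orderOf z from (MulAut.conj y).orderOf_eq z, hi]⟩
    have hyN : y ∈ normalizer ((P : Subgroup G) : Set G) := by
      rw [mem_normalizer_iff_map_conj_eq]
      refine eq_of_le_of_card_ge ?_ ?_
      · rintro _ ⟨z, hz, rfl⟩; exact hmap z hz
      · exact (card_map_of_injective (MulAut.conj y).injective).ge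
    have hyC := mem_centralizer_of_full
      (full_centralizer (fun e => hqt (by subst e; exact hu)) (hfull u hu) P) hyN hyq
    have hPF : (P : Subgroup G) ≤ F := le_inf hPM fun z hz =>
      mem_centralizer_singleton_iff.2 (hyC z hz)
    exact (factorization_eq_of_sylow_le hPF).ge
  have hpart : part t F = part t G := Finset.prod_congr rfl fun u hu => by rw [hF u hu]
  have hdvd : part t F ∣ Nat.card F := part_dvd_card t ht
  have hFM : F = M := by
    refine eq_of_le_of_card_ge inf_le_left ?_
    rw [hM, ← hpart]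
    exact Nat.le_of_dvd Nat.card_pos hdvd
  intro z hz
  exact mem_centralizer_singleton_iff.1 ((hFM.ge hz : z ∈ F).2)

/-- In a `q`-nilpotent group the `p`-part of the centralizer of a `q`-element is either full or
smaller by at least `p ^ 2`, for a prime `p < q`. -/
theorem sq_dvd_of_not_full {q r : ℕ} [Fact q.Prime] [Fact r.Prime] (hrq : r < q)
    (hG : HasNormalPComplement q G) {x : G} (hxq : ∃ k, orderOf x = q ^ k)
    (hnot : ∀ P : Sylow r G, ¬ (P : Subgroup G) ≤ centralizer ({x} : Set G)) :
    r ^ 2 * r ^ (Nat.card (centralizer ({x} : Set G))).factorization r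
      ≤ r ^ (Nat.card G).factorization r := by
  set C := centralizer ({x} : Set G)
  have hr : r.Prime := Fact.out
  rcases lt_or_ge ((Nat.card C).factorization r + 1) ((Nat.card G).factorization r) with h | h
  · rw [← pow_add]
    exact Nat.pow_le_pow_right hr.pos (by omega)
  exfalso
  have hne : (Nat.card C).factorization r ≠ (Nat.card G).factorization r := fun e => by
    obtain ⟨P, hP⟩ := exists_sylow_le (C := C) e
    exact hnot P hP
  have he : (Nat.card C).factorization r + 1 = (Nat.card G).factorization r := by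
    have := factorization_le C r
    omega
  obtain ⟨T⟩ : Nonempty (Sylow r C) := Sylow.nonempty
  set R := (T : Subgroup C).map C.subtype with hRdef
  have hRC : R ≤ C := map_subtype_le _
  have hRp : IsPGroup r R := T.isPGroup'.map _
  obtain ⟨P, hRP⟩ := hRp.exists_le_sylow
  have hRcard : Nat.card R = r ^ (Nat.card C).factorization r := by
    rw [hRdef, card_map_of_injective C.subtype_injective, T.card_eq_multiplicity]
  have hidx : R.relIndex (P : Subgroup G) = r := by
    have h1 := CfsgLib.PiClasses.relIndex_mul_card_of_le hRP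
    rw [hRcard, P.card_eq_multiplicity, ← he, pow_succ', mul_left_inj' (pow_pos hr.pos _).ne'] at h1
    exact h1
  have hn : (R.subgroupOf (P : Subgroup G)).Normal := by
    refine normal_of_index_eq_minFac_card ?_
    rw [P.card_eq_multiplicity, ← he, Nat.pow_minFac (Nat.succ_ne_zero _), hr.minFac_eq]
    exact hidx
  have hPN : (P : Subgroup G) ≤ normalizer (R : Set G) :=
    (normal_subgroupOf_iff_le_normalizer hRP).1 hn
  set N := normalizer (R : Set G)
  have hxR : x ∈ centralizer (R : Set G) := fun z hz =>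
    mem_centralizer_singleton_iff.1 (hRC hz)
  have hxN : x ∈ N := centralizer_le_normalizer _ hxR
  let P' : Sylow r N := P.subtype hPN
  have hNq := CfsgLib.Transfer.hasNormalPComplement_subgroup hG N
  have hK : ¬ q ∣ Nat.card (pResidual q N) := CfsgLib.Transfer.hasNormalPComplement_iff.1 hNq
  have hP'K : (P' : Subgroup N) ≤ pResidual q N := fun z hz => by
    refine CfsgLib.Transfer.mem_pResidual_of_coprime ?_
    obtain ⟨i, hi⟩ := IsPGroup.iff_orderOf.1 P'.isPGroup' ⟨z, hz⟩
    rw [orderOf_mk] at hi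
    rw [hi]
    exact ((Nat.coprime_primes hr Fact.out).2 hrq.ne).pow_left i
  obtain ⟨Q, hQ⟩ := exists_sylow_le_normalizer (G := N) (q := q) (pResidual q N) (P' : Subgroup N) hK
    fun g => by
      have htop := Sylow.normalizer_sup_eq_top' P' hP'K
      obtain ⟨n, hn', k, hk, rfl⟩ := mem_sup_of_normal_right.1 (htop ▸ mem_top g)
      refine ⟨n * k * n⁻¹, (inferInstance : (pResidual q N).Normal).conj_mem k hk n, ?_⟩
      have e : n * k = n * k * n⁻¹ * n := by group
      rw [e, ← CfsgLib.Transfer.map_conj_map_conj, ← e]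
      congr 1
      exact mem_normalizer_iff_map_conj_eq.1 hn'
  obtain ⟨c, hc, hcx⟩ := exists_conj_into (C := N) Q hxN hxq
  obtain ⟨v, hv, hve⟩ := hcx
  set P₁ := ((⟨c, hc⟩ : N)⁻¹ • P' : Sylow r N)
  have hP₁card : Nat.card ((P₁ : Subgroup N).map N.subtype) = r ^ (Nat.card G).factorization r := by
    rw [card_map_of_injective N.subtype_injective, Nat.card_congr (P₁.equiv P').toEquiv,
      ← P.card_eq_multiplicity]
    exact Nat.card_congr (subgroupOfEquivOfLe hPN).toEquiv
  let P₂ : Sylow r G := Sylow.ofCard ((P₁ : Subgroup N).map N.subtype) hP₁card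
  have hP₂ : (P₂ : Subgroup G) = (P₁ : Subgroup N).map N.subtype := Sylow.coe_ofCard _ _
  have hP₂mem : ∀ z : G, z ∈ (P₂ : Subgroup G) ↔ c * z * c⁻¹ ∈ (P : Subgroup G) := by
    intro z
    rw [hP₂]
    constructor
    · rintro ⟨w, hw, rfl⟩
      rw [Sylow.coe_subgroup_smul] at hw
      obtain ⟨a, ha, rfl⟩ := hw
      show c * ((c⁻¹ : G) * (a : G) * (c⁻¹ : G)⁻¹) * c⁻¹ ∈ _
      have ha' : (a : G) ∈ (P : Subgroup G) := ha
      simpa [mul_assoc] using ha'
    · intro hz
      refine ⟨(⟨c, hc⟩ : N)⁻¹ * ⟨c * z * c⁻¹, hPN hz⟩ * (⟨c, hc⟩ : N), ?_, ?_⟩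
      · rw [Sylow.coe_subgroup_smul]
        exact ⟨⟨c * z * c⁻¹, hPN hz⟩, hz, by simp [mul_assoc]⟩
      · show (c⁻¹ : G) * (c * z * c⁻¹) * c = z
        group
  have hRP₂ : R ≤ (P₂ : Subgroup G) := fun z hz =>
    (hP₂mem z).2 (hRP ((mem_normalizer_iff.1 hc z).1 hz))
  have hvN : ∀ a : G, a ∈ (P : Subgroup G) ↔ (v : G) * a * (v : G)⁻¹ ∈ (P : Subgroup G) := by
    intro a
    constructor
    · intro ha
      exact (mem_normalizer_iff.1 (hQ hv) ⟨a, hPN ha⟩).1 ha
    · intro ha
      have haN : a ∈ N := by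
        have := mul_mem (mul_mem (inv_mem v.2) (hPN ha)) v.2
        simpa [mul_assoc] using this
      exact (mem_normalizer_iff.1 (hQ hv) ⟨a, haN⟩).2 ha
  have hxP₂ : x ∈ normalizer ((P₂ : Subgroup G) : Set G) := by
    rw [mem_normalizer_iff]
    intro z
    change (v : G) = c * x * c⁻¹ at hve
    rw [hP₂mem, hP₂mem, hvN, hve]
    have e : c * x * c⁻¹ * (c * z * c⁻¹) * (c * x * c⁻¹)⁻¹ = c * (x * z * x⁻¹) * c⁻¹ := by group
    rw [e]
  have hidx₂ : R.relIndex (P₂ : Subgroup G) = r := by
    have h1 := CfsgLib.PiClasses.relIndex_mul_card_of_le hRP₂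
    rw [hRcard, P₂.card_eq_multiplicity, ← he, pow_succ', mul_left_inj' (pow_pos hr.pos _).ne'] at h1
    exact h1
  have hdvd : ¬ q ∣ r - 1 := fun hd => by
    have := Nat.le_of_dvd (by have := hr.two_le; omega) hd
    omega
  have := centralizes_of_index_prime hrq.ne' hdvd P₂.isPGroup' hRP₂ hidx₂ hxP₂ hxq hxR
  exact hnot P₂ fun z hz => mem_centralizer_singleton_iff.2 (this z hz)

end CfsgLib.PiClasses73
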