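import Cfsg.Agent.PiClasses73.Local

/-!
Many classes of `π`-elements force a nilpotent Hall `π`-subgroup.

If `p ≤ r` for all `r ∈ π` and `G` has more than `|G|_π / p` classes of `π`-elements, then `G` has
a nilpotent Hall `π`-subgroup. Only counting, Burnside transfer and Wielandt's theorem are used.
-/

set_option autoImplicit false

namespace CfsgLib.PiClasses73

open Subgroup
open Cfsg (HasNormalPComplement pResidual)
open CfsgLib.PiClasses (Classes PClasses)

universe u

/-- The statement for all sets of fewer than `n` primes. -/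
def Holds (p n : ℕ) : Prop :=
  ∀ t : Finset ℕ, t.card < n → (∀ r ∈ t, r.Prime) → (∀ r ∈ t, p ≤ r) →
    ∀ (H : Type u) [Group H] [Finite H],
      part t H < p * Nat.card (Classes t H) → HasNilHall t H

variable {G : Type u} [Group G] [Finite G] {p : ℕ} {s : Finset ℕ}

theorem subgroup_dichotomy {t : Finset ℕ} (ih : Holds.{u} p s.card) (hts : t.card < s.card)
    (ht : ∀ r ∈ t, r.Prime) (htp : ∀ r ∈ t, p ≤ r) (C : Subgroup G) :
    (∃ H : Subgroup G, H ≤ C ∧ Nat.card H = part t G ∧ Group.IsNilpotent H) ∨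
      p * Nat.card (Classes t C) ≤ part t G := by
  rcases part_dichotomy ht htp C with h | h
  · have he : part t C = part t G := Finset.prod_congr rfl fun r hr => by rw [h r hr]
    by_cases hC : HasNilHall t C
    · obtain ⟨H, hH, hHn⟩ := hC
      exact Or.inl ⟨H.map C.subtype, map_subtype_le _,
        by rw [card_map_of_injective C.subtype_injective, hH, he],
        Group.isNilpotent_congr (H.equivMapOfInjective _ C.subtype_injective) |>.1 hHn⟩
    · refine Or.inr ?_
      by_contra hlt
      exact hC (ih t hts ht htp C (by rw [he]; omega))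
  · exact Or.inr ((Nat.mul_le_mul_left p (CfsgLib.PiClasses.card_classes_le t ht _)).trans h)

/-- Two primes of `s`, when `s` has at least three, give full centralizers. -/
theorem pair_hall (ih : Holds.{u} p s.card) (hs : ∀ r ∈ s, r.Prime) (hsp : ∀ r ∈ s, p ≤ r)
    (h : part s G < p * Nat.card (Classes s G)) (h3 : 2 < s.card) {a b : ℕ} (ha : a ∈ s)
    (hb : b ∈ s) : HasNilHall {a, b} G := by
  have hsub : ({a, b} : Finset ℕ) ⊆ s := by
    intro x hx
    rcases Finset.mem_insert.1 hx with rfl | hx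
    · exact ha
    · rwa [Finset.mem_singleton.1 hx]
  refine ih _ ?_ (fun r hr => hs r (hsub hr)) (fun r hr => hsp r (hsub hr)) G (mono hs hsub h)
  exact lt_of_le_of_lt ((Finset.card_insert_le _ _).trans (by simp)) h3

/-- The class of a `q`-element whose centralizer contains a nilpotent Hall subgroup. -/
def Full (s' : Finset ℕ) {q : ℕ} (d : Classes ({q} : Finset ℕ) G) : Prop :=
  ∃ x, ConjClasses.mk x = d.1 ∧ ∃ H : Subgroup G, H ≤ centralizer ({x} : Set G) ∧
    Nat.card H = part s' G ∧ Group.IsNilpotent H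

theorem exists_orderOf_eq_pow {q : ℕ} (hq : q.Prime) (d : Classes ({q} : Finset ℕ) G) (x : G)
    (hx : ConjClasses.mk x = d.1) : ∃ k, orderOf x = q ^ k :=
  (CfsgLib.PiClasses.orderOf_mem_pow_iff hq x).2 (isS_of_class d hx)

theorem card_full_le {q : ℕ} [Fact q.Prime] {s' : Finset ℕ} (hs' : ∀ r ∈ s', r.Prime)
    {M : Subgroup G} (hM : Nat.card M = part s' G) (hMn : Group.IsNilpotent M)
    (T : Sylow q (centralizer (M : Set G))) :
    Nat.card {d : Classes ({q} : Finset ℕ) G // Full s' d} ≤
      Nat.card ((T : Subgroup (centralizer (M : Set G))).map (centralizer (M : Set G)).subtype) := by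
  set Q0 := (T : Subgroup (centralizer (M : Set G))).map (centralizer (M : Set G)).subtype
  have hqel := exists_orderOf_eq_pow (G := G) (Fact.out : q.Prime)
  have key : ∀ d : {d : Classes ({q} : Finset ℕ) G // Full s' d}, ∃ z : Q0, ConjClasses.mk (z : G) = d.1.1 := by
    rintro ⟨d, x, hx, H, hHC, hH, hHn⟩
    obtain ⟨g, hg⟩ := hall_conj hs' hH hM hHn hMn
    have hmem : g * x * g⁻¹ ∈ centralizer (M : Set G) := by
      intro z hz
      rw [SetLike.mem_coe, ← hg] at hz
      obtain ⟨a, ha, rfl⟩ := hz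
      have ha' := mem_centralizer_singleton_iff.1 (hHC ha)
      show g * a * g⁻¹ * (g * x * g⁻¹) = g * x * g⁻¹ * (g * a * g⁻¹)
      calc g * a * g⁻¹ * (g * x * g⁻¹) = g * (a * x) * g⁻¹ := by group
        _ = g * (x * a) * g⁻¹ := by rw [ha']
        _ = _ := by group
    obtain ⟨c, -, hc⟩ := exists_conj_into T hmem (by
      obtain ⟨k, hk⟩ := hqel d x hx
      exact ⟨k, by rw [show orderOf (g * x * g⁻¹) = orderOf x from (MulAut.conj g).orderOf_eq x, hk]⟩)
    refine ⟨⟨_, hc⟩, ?_⟩
    rw [← hx]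
    exact (ConjClasses.mk_eq_mk_iff_isConj.2 (isConj_iff.2 ⟨c * g, by group⟩)).symm
  choose z hz using key
  exact Nat.card_le_card_of_injective z fun a b hab =>
    Subtype.ext (Subtype.ext ((hz a).symm.trans (by rw [hab, hz b])))

theorem first_ineq (hp : p.Prime) (ih : Holds.{u} p s.card) {s' : Finset ℕ} {q : ℕ}
    (hq : q.Prime) (hqs' : q ∉ s') (hins : insert q s' = s)
    (hs' : ∀ r ∈ s', r.Prime) (hsp' : ∀ r ∈ s', p ≤ r)
    (h : part s G < p * Nat.card (Classes s G)) {c : ℕ}
    (hfullcard : Nat.card {d : Classes ({q} : Finset ℕ) G // Full s' d} ≤ c) :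
    q ^ (Nat.card G).factorization q < Nat.card (PClasses q G) + (p - 1) * c := by
  classical
  have hcard' : s'.card < s.card := by
    rw [← hins, Finset.card_insert_of_notMem hqs']; exact Nat.lt_succ_self _
  have : Fintype (Classes ({q} : Finset ℕ) G) := Fintype.ofFinite _
  have hdisj : Disjoint s' ({q} : Finset ℕ) := Finset.disjoint_singleton_right.2 hqs'
  have hun : s' ∪ {q} = s := by rw [Finset.union_comm, ← Finset.insert_eq, hins]
  have hkq : Nat.card (Classes ({q} : Finset ℕ) G) = Nat.card (PClasses q G) :=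
    CfsgLib.PiClasses.card_classes_singleton hq
  set e := (Nat.card G).factorization q
  set N := part s' G with hNdef
  have hpart : part s G = q ^ e * N := by rw [← hins]; exact part_insert hqs'
  have h1 : p * Nat.card (Classes (s' ∪ {q}) G) ≤
      ∑ d, (N + if Full s' d then (p - 1) * N else 0) := card_classes_le_sum hdisj p _ fun d x hx => by
    by_cases hF : Full s' d
    · rw [if_pos hF]
      calc p * Nat.card (Classes s' ↥(centralizer ({x} : Set G))) ≤ p * N :=
            Nat.mul_le_mul_left p ((CfsgLib.PiClasses.card_classes_le s' hs' _).trans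
              (part_subgroup_le hs' _))
        _ = N + (p - 1) * N := by
            conv_lhs => rw [show p = 1 + (p - 1) by have := hp.one_lt; omega]
            rw [add_mul, one_mul]
    · rw [if_neg hF, add_zero]
      rcases subgroup_dichotomy ih hcard' hs' hsp' (centralizer ({x} : Set G)) with
        ⟨H, hHC, hH, hHn⟩ | h'
      · exact absurd ⟨x, hx, H, hHC, hH, hHn⟩ hF
      · exact h'
  rw [hun, sum_add_ite, hkq] at h1
  rw [hpart] at h
  refine Nat.lt_of_mul_lt_mul_right (a := N) (lt_of_lt_of_le h (h1.trans ?_))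
  rw [add_mul, mul_assoc (p - 1), mul_comm (p - 1) (c * N), mul_assoc]
  refine Nat.add_le_add_left ?_ _
  rw [mul_comm (p - 1) N]
  exact Nat.mul_le_mul_right _ hfullcard

theorem complement_case {s' : Finset ℕ} {q : ℕ} [Fact q.Prime] (hqs' : q ∉ s')
    (hs' : ∀ r ∈ s', r.Prime) (hsp' : ∀ r ∈ s', p ≤ r) (hlt : ∀ r ∈ s', r < q)
    {r : ℕ} (hr : r ∈ s')
    (h : q ^ (Nat.card G).factorization q * part s' G < p * Nat.card (Classes (s' ∪ {q}) G))
    (hnil : HasNormalPComplement q G) {M : Subgroup G} (hM : Nat.card M = part s' G)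
    (hMn : Group.IsNilpotent M)
    (hnot : ∀ (H R : Subgroup G), Nat.card H = part s' G → Group.IsNilpotent H →
      Nat.card R = q ^ (Nat.card G).factorization q → ¬ R ≤ centralizer (H : Set G))
    {c : ℕ} (hfullcard : Nat.card {d : Classes ({q} : Finset ℕ) G // Full s' d} ≤ c)
    (hQ0q : q * c ≤ q ^ (Nat.card G).factorization q)
    (hpair : 2 ≤ s'.card → ∀ u ∈ s', HasNilHall {u, q} G) : False := by
  classical
  have hq : q.Prime := Fact.out
  have hrp := hs' r hr
  have := Fact.mk hrp
  have : Fintype (Classes ({q} : Finset ℕ) G) := Fintype.ofFinite _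
  have hdisj : Disjoint s' ({q} : Finset ℕ) := Finset.disjoint_singleton_right.2 hqs'
  have hkq : Nat.card (Classes ({q} : Finset ℕ) G) = Nat.card (PClasses q G) :=
    CfsgLib.PiClasses.card_classes_singleton hq
  set kq := Nat.card (PClasses q G)
  have hkqle : kq ≤ q ^ (Nat.card G).factorization q := CfsgLib.PiClasses.card_pclasses_le hq
  have hqel := exists_orderOf_eq_pow (G := G) hq
  have hQs : ∀ Q : Sylow q G, Nat.card (Q : Subgroup G) = q ^ (Nat.card G).factorization q :=
    fun Q => Q.card_eq_multiplicity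
  set e := (Nat.card G).factorization q
  set N := part s' G with hNdef
  obtain ⟨Q₂, hQ₂⟩ := normalizer_hall hnil hs' hqs' hM hMn
  by_cases h3 : 2 ≤ s'.card
  · refine hnot M Q₂ hM hMn (hQs Q₂) fun y hy => ?_
    obtain ⟨k, hk⟩ := IsPGroup.iff_orderOf.1 Q₂.isPGroup' ⟨y, hy⟩
    rw [orderOf_mk] at hk
    exact centralizes_hall hs' hqs'
      (hpair h3) hM hMn (hQ₂ hy) ⟨k, hk⟩
  · obtain ⟨r', hr'⟩ := Finset.card_eq_one.1 (show s'.card = 1 by
      have := Finset.card_pos.2 ⟨r, hr⟩; omega)
    obtain rfl : r = r' := Finset.mem_singleton.1 (hr' ▸ hr)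
    have hNr : N = r ^ (Nat.card G).factorization r := by
      rw [hNdef, hr', part_singleton]
    have h1 : r ^ 2 * Nat.card (Classes (s' ∪ {q}) G) ≤
        ∑ d, (N + if Full s' d then (r ^ 2 - 1) * N else 0) :=
      card_classes_le_sum hdisj (r ^ 2) _ fun d x hx => by
        have hb : Nat.card (Classes s' ↥(centralizer ({x} : Set G))) ≤
            r ^ (Nat.card ↥(centralizer ({x} : Set G))).factorization r := by
          refine (CfsgLib.PiClasses.card_classes_le s' hs' _).trans ?_
          rw [hr', Finset.prod_singleton]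
        by_cases hF : Full s' d
        · rw [if_pos hF]
          calc r ^ 2 * Nat.card (Classes s' ↥(centralizer ({x} : Set G))) ≤ r ^ 2 * N :=
                Nat.mul_le_mul_left _ ((CfsgLib.PiClasses.card_classes_le s' hs' _).trans
                  (part_subgroup_le hs' _))
            _ = N + (r ^ 2 - 1) * N := by
                conv_lhs => rw [show r ^ 2 = 1 + (r ^ 2 - 1) by
                  have := Nat.one_le_pow 2 r hrp.pos; omega]
                rw [add_mul, one_mul]
        · rw [if_neg hF, add_zero, hNr]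
          refine (Nat.mul_le_mul_left _ hb).trans
            (sq_dvd_of_not_full (hlt r hr) hnil (hqel d x hx) fun P hP => hF ?_)
          exact ⟨x, hx, P, hP, by rw [P.card_eq_multiplicity, ← hNr], P.isPGroup'.isNilpotent⟩
    rw [sum_add_ite, hkq] at h1
    have h4 : r ^ 2 * (q ^ e * N) < p * (q ^ e * N + c * ((r ^ 2 - 1) * N)) := by
      calc r ^ 2 * (q ^ e * N) < r ^ 2 * (p * Nat.card (Classes (s' ∪ {q}) G)) :=
            Nat.mul_lt_mul_of_pos_left h (pow_pos hrp.pos 2)
        _ = p * (r ^ 2 * Nat.card (Classes (s' ∪ {q}) G)) := by ring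
        _ ≤ _ := Nat.mul_le_mul_left p (h1.trans (Nat.add_le_add
            (Nat.mul_le_mul_right _ hkqle) (Nat.mul_le_mul_right _ hfullcard)))
    have h5 : r ^ 2 * q ^ e < r * (q ^ e + c * (r ^ 2 - 1)) := by
      refine lt_of_lt_of_le (Nat.lt_of_mul_lt_mul_right (a := N) ?_)
        (Nat.mul_le_mul_right _ (hsp' r hr))
      calc r ^ 2 * q ^ e * N = r ^ 2 * (q ^ e * N) := by ring
        _ < _ := h4
        _ = p * (q ^ e + c * (r ^ 2 - 1)) * N := by ring
    rw [sq, mul_assoc] at h5
    have h6 := Nat.lt_of_mul_lt_mul_left h5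
    have hlt' := hlt r hr
    have hr2 := hrp.two_le
    obtain ⟨r₁, rfl⟩ : ∃ r₁, r = r₁ + 1 := ⟨r - 1, by omega⟩
    have h7 : (r₁ + 1) * (r₁ + 1) - 1 = r₁ * (r₁ + 2) :=
      Nat.sub_eq_of_eq_add (by ring)
    rw [h7] at h6
    have h8 : c * (r₁ * (r₁ + 2)) ≤ r₁ * q ^ e :=
      calc c * (r₁ * (r₁ + 2)) ≤ c * (r₁ * q) :=
            Nat.mul_le_mul_left _ (Nat.mul_le_mul_left _ (by omega))
        _ = r₁ * (q * c) := by ring
        _ ≤ _ := Nat.mul_le_mul_left _ hQ0q
    rw [add_mul, one_mul] at h6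
    omega

theorem r_bound (hp3 : 3 ≤ p) (ih : Holds.{u} p s.card) (hs : ∀ r ∈ s, r.Prime)
    (hsp : ∀ r ∈ s, p ≤ r) (h : part s G < p * Nat.card (Classes s G))
    (hno : ¬ HasNilHall s G) {q r : ℕ} [Fact q.Prime] [Fact r.Prime] (hqs : q ∈ s)
    (hr : r ∈ s.erase q) (hrq : r < q) {M : Subgroup G}
    (hM : Nat.card M = part (s.erase q) G)
    (hnot : ∀ (H R : Subgroup G), Nat.card H = part (s.erase q) G → Group.IsNilpotent H →
      Nat.card R = q ^ (Nat.card G).factorization q → ¬ R ≤ centralizer (H : Set G))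
    (hab : ∀ Q : Sylow q G, IsMulCommutative (Q : Subgroup G)) {Q0 : Subgroup G}
    (hQ0p : IsPGroup q Q0) (hQ0C : Q0 ≤ centralizer (M : Set G)) {j : ℕ}
    (hQ0card : Nat.card Q0 = q ^ j) (hj1 : j + 1 = (Nat.card G).factorization q)
    (hr_dvd : ¬ r ∣ q - 1) :
    2 * r * Nat.card (PClasses r G) ≤ (r + 1) * r ^ (Nat.card G).factorization r := by
  classical
  have hq : q.Prime := Fact.out
  have hrp : r.Prime := Fact.out
  have hQs : ∀ Q : Sylow q G, Nat.card (Q : Subgroup G) = q ^ (Nat.card G).factorization q :=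
    fun Q => Q.card_eq_multiplicity
  set s' := s.erase q with hs'def
  have hsp' : ∀ r ∈ s', p ≤ r := fun r hr => hsp r (Finset.mem_of_mem_erase hr)
  have hpair : ∀ (a b : ℕ), a ∈ s → b ∈ s → 2 ≤ s'.card → HasNilHall {a, b} G :=
    fun a b ha hb h' => pair_hall ih hs hsp h (by
      rw [hs'def, Finset.card_erase_of_mem hqs] at h'; omega) ha hb
  have hins : insert q s' = s := Finset.insert_erase hqs
  set N := part s' G with hNdef
  by_contra hbig
  push Not at hbig
  obtain ⟨P₀⟩ : Nonempty (Sylow r G) := Sylow.nonempty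
  have hrnil : HasNormalPComplement r G :=
    CfsgLib.PiClasses.hasNormalPComplement_odd (by have := hsp' r hr; omega) P₀
      (by rw [P₀.card_eq_multiplicity]; exact hbig)
  have hrs : r ∈ s := Finset.mem_of_mem_erase hr
  by_cases h3 : 2 ≤ s'.card
  · set t := s.erase r with htdef
    have ht : ∀ u ∈ t, u.Prime := fun u hu => hs u (Finset.mem_of_mem_erase hu)
    obtain ⟨L, hL, hLn⟩ : HasNilHall t G := ih t (Finset.card_erase_lt_of_mem hrs) ht
      (fun u hu => hsp u (Finset.mem_of_mem_erase hu)) G (mono hs (Finset.erase_subset r s) h)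
    obtain ⟨R, hR⟩ := normalizer_hall hrnil ht (Finset.notMem_erase r s) hL hLn
    refine hno ?_
    rw [← Finset.insert_erase hrs]
    refine combine ht hrp (Finset.notMem_erase r s) hL hLn R.card_eq_multiplicity fun y hy => ?_
    obtain ⟨k, hk⟩ := IsPGroup.iff_orderOf.1 R.isPGroup' ⟨y, hy⟩
    rw [orderOf_mk] at hk
    exact centralizes_hall ht (Finset.notMem_erase r s)
      (fun u hu => hpair u r (Finset.mem_of_mem_erase hu) hrs h3) hL hLn (hR hy) ⟨k, hk⟩
  · obtain ⟨r', hr'⟩ := Finset.card_eq_one.1 (show s'.card = 1 by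
      have := Finset.card_pos.2 ⟨r, hr⟩; omega)
    obtain rfl : r = r' := Finset.mem_singleton.1 (hr' ▸ hr)
    have hNr : N = r ^ (Nat.card G).factorization r := by
      rw [hNdef, hr', part_singleton]
    obtain ⟨Q₁, hQ₀₁⟩ := hQ0p.exists_le_sylow
    set H := centralizer (Q0 : Set G) with hHdef
    have hQ₁H : (Q₁ : Subgroup G) ≤ H := fun z hz a ha =>
      CfsgLib.NilpotentCover.commute_of_isMulCommutative (hab Q₁) (hQ₀₁ ha) hz
    have hMH : M ≤ H := fun z hz a ha => (hQ0C ha z hz).symm
    let X : Sylow q H := Q₁.subtype hQ₁H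
    have hHr := CfsgLib.Transfer.hasNormalPComplement_subgroup hrnil H
    have hK : ¬ r ∣ Nat.card (pResidual r H) := CfsgLib.Transfer.hasNormalPComplement_iff.1 hHr
    have hXK : (X : Subgroup H) ≤ pResidual r H := fun z hz => by
      refine CfsgLib.Transfer.mem_pResidual_of_coprime ?_
      obtain ⟨i, hi⟩ := IsPGroup.iff_orderOf.1 X.isPGroup' ⟨z, hz⟩
      rw [orderOf_mk] at hi
      rw [hi]
      exact ((Nat.coprime_primes hq hrp).2 hrq.ne').pow_left i
    obtain ⟨R, hR⟩ := exists_sylow_le_normalizer (G := H) (q := r) (pResidual r H)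
      (X : Subgroup H) hK fun g => by
        have htop := Sylow.normalizer_sup_eq_top' X hXK
        obtain ⟨n, hn', k, hk, rfl⟩ := mem_sup_of_normal_right.1 (htop ▸ mem_top g)
        refine ⟨n * k * n⁻¹, (inferInstance : (pResidual r H).Normal).conj_mem k hk n, ?_⟩
        have e' : n * k = n * k * n⁻¹ * n := by group
        rw [e', ← CfsgLib.Transfer.map_conj_map_conj, ← e']
        congr 1
        exact mem_normalizer_iff_map_conj_eq.1 hn'
    have hRcard : Nat.card ((R : Subgroup H).map H.subtype) = N := by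
      rw [card_map_of_injective H.subtype_injective, R.card_eq_multiplicity, hNr]
      congr 1
      refine le_antisymm (factorization_le H r) ?_
      rw [← hrp.pow_dvd_iff_le_factorization Nat.card_pos.ne', ← hNr, ← hM]
      exact card_dvd_of_le hMH
    have hRn : Group.IsNilpotent ((R : Subgroup H).map H.subtype) :=
      (R.isPGroup'.map H.subtype).isNilpotent
    refine hnot _ Q₁ hRcard hRn (hQs Q₁) fun z hz w hw => ?_
    obtain ⟨w₀, hw₀, rfl⟩ := hw
    show (w₀ : G) * z = z * w₀
    have hidx : Q0.relIndex (Q₁ : Subgroup G) = q := by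
      have h1 := CfsgLib.PiClasses.relIndex_mul_card_of_le hQ₀₁
      rw [hQ0card, hQs, ← hj1, pow_succ', mul_left_inj' (pow_pos hq.pos _).ne'] at h1
      exact h1
    have hwN : (w₀ : G) ∈ normalizer ((Q₁ : Subgroup G) : Set G) := by
      rw [mem_normalizer_iff_map_conj_eq]
      refine eq_of_le_of_card_ge ?_ (card_map_of_injective (MulAut.conj (w₀ : G)).injective).ge
      rintro _ ⟨a, ha, rfl⟩
      exact (mem_normalizer_iff.1 (hR hw₀) ⟨a, hQ₁H ha⟩).1 ha
    have hwp : ∃ i, orderOf (w₀ : G) = r ^ i := by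
      obtain ⟨i, hi⟩ := IsPGroup.iff_orderOf.1 R.isPGroup' ⟨w₀, hw₀⟩
      rw [orderOf_mk] at hi
      exact ⟨i, by rw [orderOf_coe, hi]⟩
    have := centralizes_of_index_prime hrq.ne hr_dvd Q₁.isPGroup' hQ₀₁ hidx hwN hwp w₀.2
    exact (this z hz).symm

/-- Elements conjugate into the product of `Q` and an `s'`-element of its centralizer. -/
def Meets (s' : Finset ℕ) (Q : Subgroup G) (w : G) : Prop :=
  ∃ g x y : G, x ∈ centralizer (Q : Set G) ∧ IsS s' x ∧ y ∈ Q ∧ g * w * g⁻¹ = x * y

omit [Finite G] in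
theorem meets_conj {s' : Finset ℕ} {Q : Subgroup G} (g w : G) (hw : Meets s' Q w) :
    Meets s' Q (g * w * g⁻¹) := by
  obtain ⟨h', x, y, hx, hxs, hy, he⟩ := hw
  exact ⟨h' * g⁻¹, x, y, hx, hxs, hy, by rw [← he]; group⟩

theorem card_not_meets_le {s' : Finset ℕ} {q : ℕ} [Fact q.Prime] (hqs' : q ∉ s')
    (Qs : Sylow q G) :
    q * Nat.card {c : Classes ({q} ∪ s') G //
        ∃ w, ConjClasses.mk w = c.1 ∧ ¬ Meets s' (Qs : Subgroup G) w} ≤
      Nat.card (Classes s' G) * q ^ (Nat.card G).factorization q := by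
  classical
  have hq : q.Prime := Fact.out
  have hdisj : Disjoint s' ({q} : Finset ℕ) := Finset.disjoint_singleton_right.2 hqs'
  let P := Meets s' (Qs : Subgroup G)
  set e := (Nat.card G).factorization q
  have hnP : ∀ g w : G, ¬ P w → ¬ P (g * w * g⁻¹) := fun g w hw h' => hw (by
    have := meets_conj g⁻¹ _ h'
    rwa [show g⁻¹ * (g * w * g⁻¹) * g⁻¹⁻¹ = w by group] at this)
  have : Fintype (Classes s' G) := Fintype.ofFinite _
  have hd' : Disjoint ({q} : Finset ℕ) s' := hdisj.symm
  have h1 : q * Nat.card {c : Classes ({q} ∪ s') G // ∃ w, ConjClasses.mk w = c.1 ∧ ¬ P w} ≤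
      ∑ _d : Classes s' G, q ^ e := card_mul_le_sum hd' (fun w => ¬ P w) hnP q _ fun d x hx => by
    by_cases hfull :
        (Nat.card ↥(centralizer ({x} : Set G))).factorization q = (Nat.card G).factorization q
    · have h0 : Nat.card {e : Classes ({q} : Finset ℕ) ↥(centralizer ({x} : Set G)) //
          ∃ v, ConjClasses.mk v = e.1 ∧ ¬ P (x * (v : G))} = 0 := by
        refine Nat.card_eq_zero.2 (Or.inl ⟨?_⟩)
        rintro ⟨c, v, hv, hnv⟩
        apply hnv
        obtain ⟨Q₂, hQ₂⟩ := exists_sylow_le (C := centralizer ({x} : Set G)) hfull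
        have hvq : ∃ k, orderOf (v : G) = q ^ k := by
          rw [orderOf_coe]
          exact (CfsgLib.PiClasses.orderOf_mem_pow_iff hq v).2 (isS_of_class c hv)
        obtain ⟨a, ha, hav⟩ := exists_conj_into (Q₂.subtype hQ₂) v.2 hvq
        have hav' : a * v * a⁻¹ ∈ (Q₂ : Subgroup G) := by
          obtain ⟨b, hb, hbe⟩ := hav
          rw [← hbe]; exact hb
        obtain ⟨g, hg⟩ := MulAction.exists_smul_eq G Q₂ Qs
        have hQQ : ∀ z, z ∈ (Qs : Subgroup G) → g⁻¹ * z * g ∈ (Q₂ : Subgroup G) := by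
          intro z hz
          rw [← hg, Sylow.coe_subgroup_smul] at hz
          obtain ⟨b, hb, rfl⟩ := hz
          show g⁻¹ * (g * b * g⁻¹) * g ∈ (Q₂ : Subgroup G)
          rw [show g⁻¹ * (g * b * g⁻¹) * g = b by group]
          exact hb
        refine ⟨g * a, g * x * g⁻¹, g * (a * v * a⁻¹) * g⁻¹, ?_, isS_conj g (isS_of_class d hx),
          ?_, ?_⟩
        · intro z hz
          have h' := mem_centralizer_singleton_iff.1 (hQ₂ (hQQ z hz))
          calc z * (g * x * g⁻¹) = g * ((g⁻¹ * z * g) * x) * g⁻¹ := by group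
            _ = g * (x * (g⁻¹ * z * g)) * g⁻¹ := by rw [h']
            _ = _ := by group
        · rw [← hg, Sylow.coe_subgroup_smul]
          exact ⟨_, hav', rfl⟩
        · have h' := mem_centralizer_singleton_iff.1 ha
          calc g * a * (x * v) * (g * a)⁻¹ = g * ((a * x) * v * a⁻¹) * g⁻¹ := by group
            _ = g * ((x * a) * v * a⁻¹) * g⁻¹ := by rw [h']
            _ = _ := by group
      rw [h0, mul_zero]; exact Nat.zero_le _
    · refine (Nat.mul_le_mul_left q ((Nat.card_le_card_of_injective Subtype.val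
        Subtype.val_injective).trans (CfsgLib.PiClasses.card_classes_le _
          (fun u hu => by rw [Finset.mem_singleton.1 hu]; exact hq) _))).trans ?_
      rw [Finset.prod_singleton, ← pow_succ']
      exact Nat.pow_le_pow_right hq.pos (lt_of_le_of_ne (factorization_le _ q) hfull)
  rw [Finset.sum_const, Finset.card_univ, smul_eq_mul, ← Nat.card_eq_fintype_card] at h1
  exact h1

theorem card_meets_le {s' : Finset ℕ} {q : ℕ} [Fact q.Prime] (hins : insert q s' = s)
    (Qs : Sylow q G) {g : G} (hgN : g ∈ normalizer ((Qs : Subgroup G) : Set G))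
    (hgC : g ∉ centralizer ((Qs : Subgroup G) : Set G)) :
    2 * q * Nat.card {c : Classes s G //
        ∃ w, ConjClasses.mk w = c.1 ∧ Meets s' (Qs : Subgroup G) w} ≤
      Nat.card (Classes s' ↥(centralizer ((Qs : Subgroup G) : Set G))) *
        ((q + 1) * q ^ (Nat.card G).factorization q) := by
  classical
  have hq : q.Prime := Fact.out
  have hqs : q ∈ s := hins ▸ Finset.mem_insert_self q s'
  have hQs : Nat.card (Qs : Subgroup G) = q ^ (Nat.card G).factorization q :=
    Qs.card_eq_multiplicity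
  let C := centralizer ((Qs : Subgroup G) : Set G)
  set e := (Nat.card G).factorization q
  let T1 := {c : Classes s G // ∃ w, ConjClasses.mk w = c.1 ∧ Meets s' (Qs : Subgroup G) w}
  have hgCn : ∀ x : G, x ∈ C → g * x * g⁻¹ ∈ C := by
    intro x hx z hz
    have hz' : g⁻¹ * z * g ∈ (Qs : Subgroup G) := by
      simpa using (mem_normalizer_iff.1 (inv_mem hgN) z).1 hz
    calc z * (g * x * g⁻¹) = g * ((g⁻¹ * z * g) * x) * g⁻¹ := by group
      _ = g * (x * (g⁻¹ * z * g)) * g⁻¹ := by rw [hx _ hz']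
      _ = _ := by group
  choose rep hrep using fun c : Classes s' C => ConjClasses.mk_surjective c.1
  have hisS : ∀ (c : Classes s' C) (y : (Qs : Subgroup G)), IsS s ((rep c : G) * y) := by
    intro c y u hu hdv
    have hcm : Commute (rep c : G) (y : G) := ((rep c).2 y y.2).symm
    rcases hu.dvd_mul.1 (hdv.trans hcm.orderOf_mul_dvd_mul_orderOf) with hd | hd
    · exact hins ▸ Finset.mem_insert_of_mem (isS_of_class c (hrep c) u hu (by rwa [orderOf_coe] at hd))
    · obtain ⟨i, hi⟩ := IsPGroup.iff_orderOf.1 Qs.isPGroup' y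
      rw [orderOf_coe, hi] at hd
      exact ((Nat.prime_dvd_prime_iff_eq hu hq).1 (hu.dvd_of_dvd_pow hd)) ▸ hqs
  let φ : Classes s' C × (Qs : Subgroup G) → T1 := fun d =>
    ⟨⟨ConjClasses.mk ((rep d.1 : G) * d.2), isS_mk (hisS d.1 d.2)⟩, _, rfl,
      1, rep d.1, d.2, (rep d.1).2, fun u hu hdv => isS_of_class d.1 (hrep d.1) u hu
        (by rwa [orderOf_coe] at hdv), d.2.2, by simp⟩
  -- a product with first factor in the class of `c` is in the image
  have hφ : ∀ (x : C) (y : (Qs : Subgroup G)) (c : Classes s' C), ConjClasses.mk x = c.1 →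
      ConjClasses.mk ((rep c : G) * y) = ConjClasses.mk ((x : G) * y) := by
    intro x y c hc
    obtain ⟨a, ha⟩ := isConj_iff.1 (ConjClasses.mk_eq_mk_iff_isConj.1 ((hrep c).trans hc.symm))
    have ha' : (a : G) * (rep c : G) * (a : G)⁻¹ = x := congrArg Subtype.val ha
    refine ConjClasses.mk_eq_mk_iff_isConj.2 (isConj_iff.2 ⟨a, ?_⟩)
    have hay : (a : G) * y * (a : G)⁻¹ = y := mul_inv_eq_iff_eq_mul.2 (a.2 y y.2).symm
    calc (a : G) * ((rep c : G) * y) * (a : G)⁻¹
        = ((a : G) * (rep c : G) * (a : G)⁻¹) * ((a : G) * y * (a : G)⁻¹) := by group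
      _ = (x : G) * y := by rw [ha', hay]
  have hφs : Function.Surjective φ := by
    intro e'
    obtain ⟨w, hw, g', x, y, hxC, hxs, hy, he⟩ := e'.2
    let c : Classes s' C := ⟨ConjClasses.mk ⟨x, hxC⟩, isS_mk (fun u hu hdv => hxs u hu
      (by rwa [orderOf_mk] at hdv))⟩
    refine ⟨(c, ⟨y, hy⟩), Subtype.ext (Subtype.ext ?_)⟩
    show ConjClasses.mk ((rep c : G) * y) = _
    rw [hφ ⟨x, hxC⟩ ⟨y, hy⟩ c rfl, ← hw]
    exact ConjClasses.mk_eq_mk_iff_isConj.2 (isConj_iff.2 ⟨g', he⟩).symm
  have : Fintype (Classes s' C × (Qs : Subgroup G)) := Fintype.ofFinite _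
  let F : Classes s' C × (Qs : Subgroup G) → Prop := fun d => (d.2 : G) ∈ centralizer ({g} : Set G)
  have hw := CfsgLib.PiClasses.weighted_count φ hφs 2 (fun d => 1 + if F d then 1 else 0)
    fun d => by
      have hpos : 0 < Nat.card {b // φ b = φ d} :=
        Nat.card_pos_iff.2 ⟨⟨⟨d, rfl⟩⟩, inferInstance⟩
      by_cases hF : F d
      · rw [if_pos hF]; omega
      rw [if_neg hF, add_zero, one_mul]
      let x' : C := ⟨g * (rep d.1 : G) * g⁻¹, hgCn _ (rep d.1).2⟩
      let y' : (Qs : Subgroup G) := ⟨g * d.2 * g⁻¹, (mem_normalizer_iff.1 hgN _).1 d.2.2⟩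
      let c' : Classes s' C := ⟨ConjClasses.mk x', isS_mk (fun u hu hdv => by
        rw [orderOf_mk, show orderOf (g * (rep d.1 : G) * g⁻¹) = orderOf (rep d.1 : G) from
          (MulAut.conj g).orderOf_eq _, orderOf_coe] at hdv
        exact isS_of_class d.1 (hrep d.1) u hu hdv)⟩
      have he : φ (c', y') = φ d := Subtype.ext (Subtype.ext (by
        show ConjClasses.mk ((rep c' : G) * y') = ConjClasses.mk ((rep d.1 : G) * d.2)
        rw [hφ x' y' c' rfl]
        refine (ConjClasses.mk_eq_mk_iff_isConj.2 (isConj_iff.2 ⟨g, ?_⟩)).symm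
        show g * ((rep d.1 : G) * d.2) * g⁻¹ = (g * (rep d.1 : G) * g⁻¹) * (g * d.2 * g⁻¹)
        group))
      have hne' : (c', y') ≠ d := fun h' => hF (mem_centralizer_singleton_iff.2
        (mul_inv_eq_iff_eq_mul.1 (congrArg (fun z : Classes s' C × (Qs : Subgroup G) => (z.2 : G)) h')).symm)
      exact Finite.one_lt_card_iff_nontrivial.2
        ⟨⟨⟨(c', y'), he⟩, ⟨d, rfl⟩, fun h' => hne' (congrArg Subtype.val h')⟩⟩
  rw [sum_add_ite, mul_one, mul_one, Nat.card_prod, hQs] at hw
  have hFc : Nat.card {d // F d} = Nat.card (Classes s' C) *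
      Nat.card ↥((Qs : Subgroup G) ⊓ centralizer ({g} : Set G)) := by
    rw [← Nat.card_prod]
    exact Nat.card_congr
      { toFun := fun d => (d.1.1, ⟨d.1.2, d.1.2.2, d.2⟩)
        invFun := fun d => ⟨(d.1, ⟨d.2, d.2.2.1⟩), d.2.2.2⟩
        left_inv := fun d => rfl
        right_inv := fun d => rfl }
  obtain ⟨i, hi0, hi⟩ := CfsgLib.PiClasses.fixed_lt Qs.isPGroup' hgC
  rw [hQs] at hi
  rw [hFc] at hw
  set X := Nat.card (Classes s' C)
  set D := Nat.card ↥((Qs : Subgroup G) ⊓ centralizer ({g} : Set G))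
  have hD : q * D ≤ q ^ e := by
    rw [← hi, mul_comm q]
    exact Nat.mul_le_mul_left _ (Nat.le_self_pow hi0 q)
  calc 2 * q * Nat.card T1 = q * (2 * Nat.card T1) := by ring
    _ ≤ q * (X * q ^ e + X * D) := Nat.mul_le_mul_left q hw
    _ = X * (q * q ^ e + q * D) := by ring
    _ ≤ X * (q * q ^ e + q ^ e) := Nat.mul_le_mul_left _ (Nat.add_le_add_left hD _)
    _ = X * ((q + 1) * q ^ e) := by ring

theorem step (hp : p.Prime) (ih : Holds.{u} p s.card) (hs : ∀ r ∈ s, r.Prime)
    (hsp : ∀ r ∈ s, p ≤ r) (h : part s G < p * Nat.card (Classes s G)) : HasNilHall s G := by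
  classical
  by_cases h2 : s.card ≤ 1
  · rcases Nat.le_one_iff_eq_zero_or_eq_one.1 h2 with h0 | h1
    · rw [Finset.card_eq_zero.1 h0]; exact hasNilHall_empty
    · obtain ⟨q, rfl⟩ := Finset.card_eq_one.1 h1
      exact hasNilHall_singleton (hs q (Finset.mem_singleton_self q))
  have hne : s.Nonempty := Finset.card_pos.1 (by omega)
  set q := s.max' hne with hqdef
  have hqs : q ∈ s := s.max'_mem hne
  set s' := s.erase q with hs'def
  have hqs' : q ∉ s' := Finset.notMem_erase q s
  have hins : insert q s' = s := Finset.insert_erase hqs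
  have hs' : ∀ r ∈ s', r.Prime := fun r hr => hs r (Finset.mem_of_mem_erase hr)
  have hsp' : ∀ r ∈ s', p ≤ r := fun r hr => hsp r (Finset.mem_of_mem_erase hr)
  have hlt : ∀ r ∈ s', r < q := fun r hr =>
    lt_of_le_of_ne (s.le_max' r (Finset.mem_of_mem_erase hr)) (Finset.ne_of_mem_erase hr)
  have hcard' : s'.card < s.card := Finset.card_erase_lt_of_mem hqs
  have hq : q.Prime := hs q hqs
  have := Fact.mk hq
  obtain ⟨r, hr⟩ : s'.Nonempty := Finset.card_pos.1 (by
    rw [hs'def, Finset.card_erase_of_mem hqs]; omega)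
  have hrp := hs' r hr
  have := Fact.mk hrp
  have hpq : p < q := lt_of_le_of_lt (hsp' r hr) (hlt r hr)
  have hpair : ∀ (a b : ℕ), a ∈ s → b ∈ s → 2 ≤ s'.card → HasNilHall {a, b} G := fun a b ha hb h' =>
    pair_hall ih hs hsp h (by omega) ha hb
  by_contra hno
  obtain ⟨M, hM, hMn⟩ : HasNilHall s' G :=
    ih s' hcard' hs' hsp' G (mono hs (Finset.erase_subset q s) h)
  set e := (Nat.card G).factorization q with hedef
  set N := part s' G with hNdef
  have hN : 0 < N := part_pos hs'
  have hpart : part s G = q ^ e * N := by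
    rw [← hins]; exact part_insert hqs'
  obtain ⟨Qs⟩ : Nonempty (Sylow q G) := Sylow.nonempty
  have hQs : ∀ Q : Sylow q G, Nat.card (Q : Subgroup G) = q ^ e := fun Q => Q.card_eq_multiplicity
  -- no full `q`-subgroup centralises a nilpotent Hall subgroup
  have hnot : ∀ (H R : Subgroup G), Nat.card H = N → Group.IsNilpotent H → Nat.card R = q ^ e →
      ¬ R ≤ centralizer (H : Set G) := fun H R hH hHn hR hle =>
    hno (hins ▸ combine hs' hq hqs' hH hHn hR hle)
  -- the Sylow `q`-subgroup of `C(M)`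
  obtain ⟨T⟩ : Nonempty (Sylow q (centralizer (M : Set G))) := Sylow.nonempty
  set Q0 := (T : Subgroup (centralizer (M : Set G))).map (centralizer (M : Set G)).subtype with hQ0def
  have hQ0p : IsPGroup q Q0 := T.isPGroup'.map _
  have hQ0C : Q0 ≤ centralizer (M : Set G) := map_subtype_le _
  set j := (Nat.card (centralizer (M : Set G))).factorization q with hjdef
  have hQ0card : Nat.card Q0 = q ^ j := by
    rw [hQ0def, card_map_of_injective (centralizer (M : Set G)).subtype_injective,
      T.card_eq_multiplicity]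
  have hje : j < e := lt_of_le_of_ne (factorization_le _ q) fun he =>
    hnot M Q0 hM hMn (by rw [hQ0card, he]) hQ0C
  have hQ0q : q * Nat.card Q0 ≤ q ^ e := by
    rw [hQ0card, ← pow_succ']; exact Nat.pow_le_pow_right hq.pos hje
  -- classes of `q`-elements
  have hdisj : Disjoint s' ({q} : Finset ℕ) := Finset.disjoint_singleton_right.2 hqs'
  have hun : s' ∪ {q} = s := by rw [Finset.union_comm, ← Finset.insert_eq, hins]
  have hkq : Nat.card (Classes ({q} : Finset ℕ) G) = Nat.card (PClasses q G) :=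
    CfsgLib.PiClasses.card_classes_singleton hq
  set kq := Nat.card (PClasses q G) with hkqdef
  have hkqle : kq ≤ q ^ e := CfsgLib.PiClasses.card_pclasses_le hq
  have hfullcard := card_full_le hs' hM hMn T
  have hI : q ^ e < kq + (p - 1) * Nat.card Q0 :=
    first_ineq hp ih hq hqs' hins hs' hsp' h hfullcard
  -- the Sylow `q`-subgroups are commutative
  have hab : ∀ Q : Sylow q G, IsMulCommutative (Q : Subgroup G) := fun Q => by
    refine commutative_of_large Q ?_
    rw [hQs, ← hkqdef]
    have h1 : q * q ^ e < q * kq + (p - 1) * q ^ e := by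
      calc q * q ^ e < q * (kq + (p - 1) * Nat.card Q0) := Nat.mul_lt_mul_of_pos_left hI hq.pos
        _ = q * kq + (p - 1) * (q * Nat.card Q0) := by ring
        _ ≤ _ := Nat.add_le_add_left (Nat.mul_le_mul_left _ hQ0q) _
    have hp1 : p - 1 + 2 ≤ q := by have := hp.one_lt; omega
    have h9 := Nat.mul_le_mul_right (q ^ e) hp1
    rw [add_mul] at h9
    omega
  by_cases hnil : HasNormalPComplement q G
  · exact complement_case hqs' hs' hsp' hlt hr (by rw [hun, ← hpart]; exact h) hnil hM hMn hnot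
      hfullcard hQ0q fun h3 u hu => hpair u q (Finset.mem_of_mem_erase hu) hqs h3
  -- a nontrivial automizer
  have hwit : ∀ Q : Sylow q G, ∃ g ∈ normalizer ((Q : Subgroup G) : Set G),
      g ∉ centralizer ((Q : Subgroup G) : Set G) := fun Q => by
    by_contra hh
    push Not at hh
    exact hnil (complement_of_le_centralizer Q hh)
  have hkb : 2 * q * kq ≤ (q + 1) * q ^ e := by
    obtain ⟨g, hg, hg'⟩ := hwit Qs
    have := pclasses_bound Qs hg hg'
    rwa [hQs, ← hkqdef] at this
  have h2pq : 2 * q < q + 1 + 2 * (p - 1) := by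
    refine Nat.lt_of_mul_lt_mul_right (a := q ^ e) ?_
    calc 2 * q * q ^ e < 2 * q * (kq + (p - 1) * Nat.card Q0) :=
          Nat.mul_lt_mul_of_pos_left hI (by have := hq.pos; omega)
      _ = 2 * q * kq + 2 * (p - 1) * (q * Nat.card Q0) := by ring
      _ ≤ (q + 1) * q ^ e + 2 * (p - 1) * q ^ e :=
          Nat.add_le_add hkb (Nat.mul_le_mul_left _ hQ0q)
      _ = _ := by ring
  have hp2 : p ≠ 2 := by omega
  have hpodd : p % 2 = 1 := hp.eq_two_or_odd.resolve_left hp2
  have hp3 : 3 ≤ p := by have := hp.two_le; omega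
  have hqodd : q % 2 = 1 := hq.eq_two_or_odd.resolve_left (by omega)
  have hpq2 : p + 2 ≤ q := by omega
  have hj1 : j + 1 = e := by
    by_contra hne'
    have hq2 : q * q * Nat.card Q0 ≤ q ^ e := by
      rw [hQ0card, mul_assoc, ← pow_succ', ← pow_succ']
      exact Nat.pow_le_pow_right hq.pos (by omega)
    have h8 : 2 * (q * q) * q ^ e < q * ((q + 1) * q ^ e) + 2 * (p - 1) * q ^ e :=
      calc 2 * (q * q) * q ^ e < 2 * (q * q) * (kq + (p - 1) * Nat.card Q0) :=
            Nat.mul_lt_mul_of_pos_left hI (by have := hq.pos; positivity)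
        _ = q * (2 * q * kq) + 2 * (p - 1) * (q * q * Nat.card Q0) := by ring
        _ ≤ _ := Nat.add_le_add (Nat.mul_le_mul_left _ hkb) (Nat.mul_le_mul_left _ hq2)
    have h9 := Nat.mul_le_mul_right (q ^ e) (Nat.le_trans
      (show 2 * (p - 1) + q ≤ 3 * q by omega) (Nat.mul_le_mul_right q (show 3 ≤ q by omega)))
    rw [add_mul] at h9
    have e1 : q * ((q + 1) * q ^ e) = q * q * q ^ e + q * q ^ e := by ring
    have e2 : 2 * (q * q) * q ^ e = 2 * (q * q * q ^ e) := by ring
    omega
  have hrodd : r % 2 = 1 := hrp.eq_two_or_odd.resolve_left (by have := hsp' r hr; omega)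
  have hr_dvd : ¬ r ∣ q - 1 := by
    rintro ⟨c, hc⟩
    have hlt' := hlt r hr
    have hle' := hsp' r hr
    rcases Nat.lt_or_ge c 2 with hc2 | hc2
    · interval_cases c <;> omega
    · have := Nat.mul_le_mul_left r hc2
      omega
  -- classes of `s'`-elements
  have hkr := r_bound hp3 ih hs hsp h hno hqs hr (hlt r hr) hM hnot hab hQ0p hQ0C hQ0card hj1 hr_dvd
  set k' := Nat.card (Classes s' G) with hk'def
  have hk' : 2 * p * k' ≤ (p + 1) * N := by
    have h1 := CfsgLib.PiClasses.card_classes_le_pclasses (G := G) hs' hr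
    have h2 : N = r ^ (Nat.card G).factorization r *
        ∏ u ∈ s'.erase r, u ^ (Nat.card G).factorization u :=
      (Finset.mul_prod_erase s' (fun u => u ^ (Nat.card G).factorization u) hr).symm
    set B := ∏ u ∈ s'.erase r, u ^ (Nat.card G).factorization u with hB
    refine Nat.le_of_mul_le_mul_left ?_ hrp.pos
    calc r * (2 * p * k') ≤ r * (2 * p * (Nat.card (PClasses r G) * B)) :=
          Nat.mul_le_mul_left _ (Nat.mul_le_mul_left _ h1)
      _ = p * B * (2 * r * Nat.card (PClasses r G)) := by ring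
      _ ≤ p * B * ((r + 1) * r ^ (Nat.card G).factorization r) := Nat.mul_le_mul_left _ hkr
      _ = (p * (r + 1)) * N := by rw [h2]; ring
      _ ≤ r * (p + 1) * N := Nat.mul_le_mul_right _ (by
          have := hsp' r hr
          rw [Nat.mul_succ, Nat.mul_succ, mul_comm r p]
          omega)
      _ = r * ((p + 1) * N) := by ring
  -- the classes meeting `C(Q) × Q`
  have hQc := hab Qs
  let C := centralizer ((Qs : Subgroup G) : Set G)
  have hX : p * Nat.card (Classes s' C) ≤ N := by
    rcases subgroup_dichotomy ih hcard' hs' hsp' C with ⟨H, hHC, hH, hHn⟩ | h'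
    · exact absurd (fun z hz a ha => (hHC ha z hz).symm) (hnot H Qs hH hHn (hQs Qs))
    · exact h'
  let P := Meets s' (Qs : Subgroup G)
  set T1 := {c : Classes s G // ∃ w, ConjClasses.mk w = c.1 ∧ P w}
  set T2 := {c : Classes s G // ∃ w, ConjClasses.mk w = c.1 ∧ ¬ P w}
  have hsplit : Nat.card (Classes s G) ≤ Nat.card T1 + Nat.card T2 := by
    rw [← Nat.card_sum]
    refine Nat.card_le_card_of_injective (fun c => if hc : P (ConjClasses.exists_rep c.1).choose then
      Sum.inl ⟨c, _, (ConjClasses.exists_rep c.1).choose_spec, hc⟩ else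
      Sum.inr ⟨c, _, (ConjClasses.exists_rep c.1).choose_spec, hc⟩) ?_
    intro a b hab'
    simp only at hab'
    split_ifs at hab' <;> first
      | exact congrArg Subtype.val (Sum.inl.inj hab')
      | exact congrArg Subtype.val (Sum.inr.inj hab')
      | simp at hab'
  have hT2 : q * Nat.card T2 ≤ k' * q ^ e := by
    have h1 := card_not_meets_le hqs' Qs
    rw [← Finset.insert_eq, hins] at h1
    exact h1
  obtain ⟨g, hgN, hgC⟩ := hwit Qs
  have hT1 : 2 * q * Nat.card T1 ≤ Nat.card (Classes s' C) * ((q + 1) * q ^ e) :=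
    card_meets_le hins Qs hgN hgC
  -- the final count
  have hfin : 2 * q * (p * Nat.card (Classes s G)) ≤ (q + p + 2) * (N * q ^ e) :=
    calc 2 * q * (p * Nat.card (Classes s G)) ≤ 2 * q * (p * (Nat.card T1 + Nat.card T2)) :=
          Nat.mul_le_mul_left _ (Nat.mul_le_mul_left _ hsplit)
      _ = p * (2 * q * Nat.card T1) + 2 * p * (q * Nat.card T2) := by ring
      _ ≤ p * (Nat.card (Classes s' C) * ((q + 1) * q ^ e)) + 2 * p * (k' * q ^ e) :=
          Nat.add_le_add (Nat.mul_le_mul_left _ hT1) (Nat.mul_le_mul_left _ hT2)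
      _ = (p * Nat.card (Classes s' C)) * ((q + 1) * q ^ e) + (2 * p * k') * q ^ e := by ring
      _ ≤ N * ((q + 1) * q ^ e) + ((p + 1) * N) * q ^ e :=
          Nat.add_le_add (Nat.mul_le_mul_right _ hX) (Nat.mul_le_mul_right _ hk')
      _ = _ := by ring
  have hfin' : 2 * q * (q ^ e * N) < 2 * q * (p * Nat.card (Classes s G)) :=
    Nat.mul_lt_mul_of_pos_left (hpart ▸ h) (by have := hq.pos; omega)
  have hfin'' := Nat.mul_le_mul_right (N * q ^ e) (show q + p + 2 ≤ 2 * q by omega)
  rw [mul_comm (q ^ e) N] at hfin'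
  omega

/-- **Many classes of `π`-elements give a nilpotent Hall `π`-subgroup.** -/
theorem hasNilHall_of_many (hp : p.Prime) :
    ∀ s : Finset ℕ, (∀ r ∈ s, r.Prime) → (∀ r ∈ s, p ≤ r) → ∀ (G : Type u) [Group G] [Finite G],
      part s G < p * Nat.card (Classes s G) → HasNilHall s G := by
  suffices ∀ n, Holds.{u} p n from fun s => this (s.card + 1) s (Nat.lt_succ_self _)
  intro n
  induction n with
  | zero => intro t ht; exact absurd ht (Nat.not_lt_zero _)
  | succ n ih =>
    intro t ht htP htp H _ _ hH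
    exact step hp (fun t' ht' => ih t' (by omega)) htP htp hH

end CfsgLib.PiClasses73
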