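import Cfsg.Agent.PiClasses73.Derived
import Cfsg.Agent.PiClasses.Assembly

/-!
The two statements on many `π`-classes, in the form asked.
-/

set_option autoImplicit false

namespace CfsgLib.PiClasses73

open Subgroup
open CfsgLib.PiClasses (Classes PClasses lt_pclasses_of_lt orderOf_eq_of_mem_carrier)

universe u

variable {G : Type u} [Group G] [Finite G]

theorem exists_finset (π : Set ℕ) (m : ℕ) (hm : m ∣ Nat.card G)
    (hmπ : ∀ q : ℕ, q.Prime → q ∣ m → q ∈ π) (hm' : ∀ q ∈ π, ¬ q ∣ Nat.card G / m) :
    ∃ s : Finset ℕ, (∀ r ∈ s, r.Prime) ∧ (∀ r ∈ s, r ∈ π) ∧ part s G = m ∧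
      Nat.card {C : ConjClasses G // ∀ q : ℕ, q.Prime →
        (∃ g : G, ConjClasses.mk g = C ∧ q ∣ orderOf g) → q ∈ π} = Nat.card (Classes s G) := by
  classical
  refine ⟨(Nat.card G).primeFactors.filter (· ∈ π),
    fun r hr => Nat.prime_of_mem_primeFactors (Finset.mem_filter.1 hr).1,
    fun r hr => (Finset.mem_filter.1 hr).2, ?_, Nat.card_congr (Equiv.subtypeEquivRight fun C => ?_)⟩
  · have hm0 : m ≠ 0 := fun h => by
      rw [h, zero_dvd_iff] at hm; exact Nat.card_pos.ne' hm
    have hd0 : Nat.card G / m ≠ 0 :=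
      (Nat.div_pos (Nat.le_of_dvd Nat.card_pos hm) (Nat.pos_of_ne_zero hm0)).ne'
    have hfac : (Nat.card G).factorization = m.factorization + (Nat.card G / m).factorization := by
      rw [← Nat.factorization_mul hm0 hd0, Nat.mul_div_cancel' hm]
    have hset : (Nat.card G).primeFactors.filter (· ∈ π) = m.primeFactors := by
      ext r
      simp only [Finset.mem_filter, Nat.mem_primeFactors, ne_eq, hm0, Nat.card_pos.ne',
        not_false_eq_true, and_true]
      constructor
      · rintro ⟨⟨hr, hd⟩, hrπ⟩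
        rw [← Nat.mul_div_cancel' hm] at hd
        rcases hr.dvd_mul.1 hd with h | h
        · exact ⟨hr, h⟩
        · exact absurd h (hm' r hrπ)
      · rintro ⟨hr, hd⟩
        exact ⟨⟨hr, hd.trans hm⟩, hmπ r hr hd⟩
    rw [part, hset]
    conv_rhs => rw [← Nat.prod_factorization_pow_eq_self hm0, Finsupp.prod, Nat.support_factorization]
    refine Finset.prod_congr rfl fun r hr => ?_
    obtain ⟨hrp, hrd, -⟩ := Nat.mem_primeFactors.1 hr
    rw [hfac, Finsupp.add_apply,
      Nat.factorization_eq_zero_of_not_dvd (hm' r (hmπ r hrp hrd)), add_zero]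
  · constructor
    · intro h x hx r hr hd
      exact Finset.mem_filter.2 ⟨Nat.mem_primeFactors.2
        ⟨hr, hd.trans (orderOf_dvd_natCard x), Nat.card_pos.ne'⟩,
        h r hr ⟨x, ConjClasses.mem_carrier_iff_mk_eq.1 hx, hd⟩⟩
    · rintro h q hq ⟨g, hg, hd⟩
      exact (Finset.mem_filter.1 (h g (ConjClasses.mem_carrier_iff_mk_eq.2 hg) q hq hd)).2

/-- A Sylow subgroup of a nilpotent Hall subgroup is one of the whole group. -/
theorem exists_sylow_of_hall {s : Finset ℕ} (hs : ∀ r ∈ s, r.Prime) {H : Subgroup G}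
    (hH : Nat.card H = part s G) {r : ℕ} [Fact r.Prime] (R : Sylow r H)
    (hr : r ∈ (Nat.card H).primeFactors) :
    r ∈ s ∧ ∃ P : Sylow r G, Nonempty ((R : Subgroup H) ≃* (P : Subgroup G)) := by
  obtain ⟨hrp, hrd, -⟩ := Nat.mem_primeFactors.1 hr
  have hrs := mem_of_prime_dvd_part hs hrp (hH ▸ hrd)
  refine ⟨hrs, Sylow.ofCard ((R : Subgroup H).map H.subtype) ?_, ?_⟩
  · rw [card_map_of_injective H.subtype_injective, R.card_eq_multiplicity]
    congr 1
    refine le_antisymm (factorization_le H r) ?_
    rw [← hrp.pow_dvd_iff_le_factorization Nat.card_pos.ne', hH]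
    exact Finset.dvd_prod_of_mem (fun r => r ^ (Nat.card G).factorization r) hrs
  · rw [Sylow.coe_ofCard]
    exact ⟨(R : Subgroup H).equivMapOfInjective _ H.subtype_injective⟩

theorem isMulCommutative_congr {A B : Type*} [Group A] [Group B] (e : A ≃* B)
    (h : IsMulCommutative B) : IsMulCommutative A :=
  ⟨⟨fun a b => e.injective (by rw [map_mul, map_mul, h.is_comm.comm])⟩⟩

theorem card_commutator_congr {A B : Type*} [Group A] [Group B] (e : A ≃* B) :
    Nat.card (commutator A) = Nat.card (commutator B) := by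
  have h : (commutator A).map e.toMonoidHom = commutator B := by
    rw [_root_.commutator_def, _root_.commutator_def, map_commutator, map_top_of_surjective _ e.surjective]
  rw [← h, card_map_of_injective e.injective]

/-- Above `1 / p` the Sylow subgroups for primes larger than `p` are commutative. -/
theorem commutative_of_gt {p r : ℕ} [Fact r.Prime] (hpr : p < r) (R : Sylow r G)
    (h : Nat.card (R : Subgroup G) < p * Nat.card (PClasses r G)) :
    IsMulCommutative (R : Subgroup G) := by
  by_contra hR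
  obtain ⟨z, hz, hk⟩ := CfsgLib.PiClasses.card_classes_nonabelian_le R hR
  have hr : r.Prime := Fact.out
  set c := Nat.card (R : Subgroup G)
  set k := Nat.card (PClasses r G)
  have h1 : r * r * k + r * z ≤ 2 * c + (r - 1) * c + r * z := by
    have e1 := Nat.mul_le_mul_left r hk
    have e2 : r * (r * z) = r * r * z := by ring
    have e3 : r * c = (r - 1) * c + c := by
      conv_lhs => rw [show r = r - 1 + 1 by have := hr.one_lt; omega]
      rw [add_mul, one_mul]
    rw [mul_add, mul_add, ← mul_assoc, e2, e3] at e1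
    omega
  have h2 : r * r * k ≤ (r + 1) * c := by
    have e : (r + 1) * c = 2 * c + (r - 1) * c := by
      rw [← add_mul]; congr 1; have := hr.one_lt; omega
    omega
  have h3 : p * (r + 1) ≤ r * r := by
    calc p * (r + 1) ≤ (r - 1) * (r + 1) := Nat.mul_le_mul_right _ (by omega)
      _ ≤ r * r := by
        obtain ⟨t, rfl⟩ : ∃ t, r = t + 1 := ⟨r - 1, by omega⟩
        rw [Nat.add_sub_cancel]
        ring_nf
        omega
  have h4 : r * r * c < r * r * c :=
    calc r * r * c < r * r * (p * k) := Nat.mul_lt_mul_of_pos_left h (Nat.mul_pos hr.pos hr.pos)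
      _ = p * (r * r * k) := by ring
      _ ≤ p * ((r + 1) * c) := Nat.mul_le_mul_left _ h2
      _ = p * (r + 1) * c := by ring
      _ ≤ _ := Nat.mul_le_mul_right _ h3
  exact lt_irrefl _ h4

theorem exists_hall_derived_le {p : ℕ} (hp : p.Prime) {s : Finset ℕ} (hs : ∀ r ∈ s, r.Prime)
    (hsp : ∀ r ∈ s, p ≤ r) (h : part s G < p * Nat.card (Classes s G)) :
    ∃ H : Subgroup G, Nat.card H = part s G ∧ Group.IsNilpotent H ∧
      Nat.card (commutator H) ≤ p := by
  obtain ⟨H, hH, hHn⟩ := hasNilHall_of_many hp s hs hsp G h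
  refine ⟨H, hH, hHn, card_commutator_le_of_sylow p p hp.one_lt.le fun r R hr => ?_⟩
  have := Fact.mk (Nat.prime_of_mem_primeFactors hr)
  obtain ⟨hrs, P, ⟨e⟩⟩ := exists_sylow_of_hall hs hH R hr
  have hk : Nat.card (P : Subgroup G) < p * Nat.card (PClasses r G) := by
    have := lt_pclasses_of_lt (a := 1) (b := p) hs hrs P (by rw [one_mul]; exact h)
    rwa [one_mul] at this
  have hab : r ≠ p → IsMulCommutative (R : Subgroup H) := fun hne =>
    isMulCommutative_congr e (commutative_of_gt (lt_of_le_of_ne (hsp r hrs) hne.symm) P hk)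
  refine ⟨hab, ?_⟩
  by_cases hrp : r = p
  · subst hrp
    rw [card_commutator_congr e]
    exact card_commutator_le_of_many P.isPGroup' (hk.trans_le
      (Nat.mul_le_mul_left _ (CfsgLib.PiClasses.card_pclasses_le_classes P)))
  · have hc := hab hrp
    have : Nat.card (commutator (R : Subgroup H)) = 1 := by
      rw [card_eq_one, _root_.commutator_def, eq_bot_iff, commutator_le]
      intro a _ b _
      rw [mem_bot, commutatorElement_eq_one_iff_commute]
      exact hc.is_comm.comm a b
    rw [this]
    exact hp.one_lt.le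

theorem exists_abelian_hall {p : ℕ} (hp : p.Prime) {s : Finset ℕ} (hs : ∀ r ∈ s, r.Prime)
    (hsp : ∀ r ∈ s, p ≤ r)
    (h : part s G * (p ^ 2 + p - 1) < p ^ 3 * Nat.card (Classes s G)) :
    ∃ H : Subgroup G, Nat.card H = part s G ∧ IsMulCommutative H := by
  have hp2 := hp.two_le
  have h' : part s G < p * Nat.card (Classes s G) := by
    refine Nat.lt_of_mul_lt_mul_left (a := p ^ 2) ?_
    calc p ^ 2 * part s G ≤ part s G * (p ^ 2 + p - 1) := by
          rw [mul_comm]; exact Nat.mul_le_mul_left _ (by omega)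
      _ < _ := h
      _ = _ := by ring
  obtain ⟨H, hH, hHn⟩ := hasNilHall_of_many hp s hs hsp G h'
  refine ⟨H, hH, ?_⟩
  have hall : ∀ (r : ℕ) (R : Sylow r H), r ∈ (Nat.card H).primeFactors →
      IsMulCommutative (R : Subgroup H) := fun r R hr => by
    have := Fact.mk (Nat.prime_of_mem_primeFactors hr)
    obtain ⟨hrs, P, ⟨e⟩⟩ := exists_sylow_of_hall hs hH R hr
    refine isMulCommutative_congr e ?_
    rcases lt_or_eq_of_le (hsp r hrs) with hlt | heq
    · have := lt_pclasses_of_lt (a := 1) (b := p) hs hrs P (by rw [one_mul]; exact h')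
      rw [one_mul] at this
      exact commutative_of_gt hlt P this
    · subst heq
      by_contra hP
      obtain ⟨z, hz, hk⟩ := CfsgLib.PiClasses.card_classes_nonabelian_le P hP
      have h2 := lt_pclasses_of_lt (a := p ^ 2 + p - 1) (b := p ^ 3) hs hrs P
        (by rw [mul_comm]; exact h)
      obtain ⟨t, rfl⟩ : ∃ t, p = t + 1 := ⟨p - 1, by omega⟩
      rw [show (t + 1) ^ 2 + (t + 1) - 1 = (t + 1) ^ 2 + t by omega] at h2
      have h5 := Nat.mul_le_mul_left t hz
      have h6 := Nat.mul_le_mul_left ((t + 1) * (t + 1)) hk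
      simp only [pow_two, pow_three, mul_add, add_mul, mul_one, one_mul, mul_assoc,
        mul_left_comm t, mul_comm t] at h2 h5 h6
      nlinarith
  have hone : Nat.card (commutator H) ≤ 1 :=
    card_commutator_le_of_sylow 0 1 le_rfl fun r R hr => ⟨fun _ => hall r R hr, by
      refine le_of_eq ?_
      rw [card_eq_one, _root_.commutator_def, eq_bot_iff, commutator_le]
      intro a _ b _
      rw [mem_bot, commutatorElement_eq_one_iff_commute]
      exact (hall r R hr).is_comm.comm a b⟩
  have hbot : commutator H = ⊥ := card_eq_one.1 (le_antisymm hone Nat.card_pos)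
  refine ⟨⟨fun a b => commutatorElement_eq_one_iff_commute.1 (mem_bot.1 (hbot ▸ ?_))⟩⟩
  exact commutator_mem_commutator (mem_top a) (mem_top b)

end CfsgLib.PiClasses73
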