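import Cfsg.Agent.PiClasses.Threshold
import Cfsg.Agent.Transfer.NilpotentHall
import Cfsg.Agent.OddOrder.BG3.KernelNilpotent

/-!
The `π`-part of the order, nilpotent Hall subgroups, and normalizing Sylow subgroups.
-/

set_option autoImplicit false

namespace CfsgLib.PiClasses73

open Subgroup

universe u

variable {G : Type u} [Group G]

/-- The `s`-part of the order of `G`. -/
noncomputable def part (s : Finset ℕ) (G : Type u) : ℕ :=
  ∏ r ∈ s, r ^ (Nat.card G).factorization r

/-- `G` has a nilpotent subgroup whose order is the `s`-part of the order. -/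
def HasNilHall (s : Finset ℕ) (G : Type u) [Group G] : Prop :=
  ∃ H : Subgroup G, Nat.card H = part s G ∧ Group.IsNilpotent H

theorem part_pos {s : Finset ℕ} (hs : ∀ r ∈ s, r.Prime) : 0 < part s G :=
  Finset.prod_pos fun r hr => pow_pos (hs r hr).pos _

omit [Group G] in
theorem part_insert {s : Finset ℕ} {q : ℕ} (h : q ∉ s) :
    part (insert q s) G = q ^ (Nat.card G).factorization q * part s G :=
  Finset.prod_insert h

omit [Group G] in
theorem part_singleton (q : ℕ) : part {q} G = q ^ (Nat.card G).factorization q :=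
  Finset.prod_singleton _ _

omit [Group G] in
theorem part_union {s t : Finset ℕ} (h : Disjoint s t) :
    part (s ∪ t) G = part s G * part t G :=
  Finset.prod_union h

omit [Group G] in
theorem mem_of_prime_dvd_part {s : Finset ℕ} (hs : ∀ r ∈ s, r.Prime) {r : ℕ} (hr : r.Prime)
    (h : r ∣ part s G) : r ∈ s := by
  obtain ⟨u, hu, hd⟩ := (Prime.dvd_finsetProd_iff hr.prime _).1 h
  rwa [(Nat.prime_dvd_prime_iff_eq hr (hs u hu)).1 (hr.dvd_of_dvd_pow hd)]

variable [Finite G]

theorem factorization_le (C : Subgroup G) (r : ℕ) :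
    (Nat.card C).factorization r ≤ (Nat.card G).factorization r :=
  (Nat.factorization_le_iff_dvd Nat.card_pos.ne' Nat.card_pos.ne').2
    (card_subgroup_dvd_card C) r

theorem part_subgroup_dvd (s : Finset ℕ) (C : Subgroup G) : part s C ∣ part s G :=
  Finset.prod_dvd_prod_of_dvd _ _ fun r _ => pow_dvd_pow r (factorization_le C r)

theorem part_subgroup_le {s : Finset ℕ} (hs : ∀ r ∈ s, r.Prime) (C : Subgroup G) :
    part s C ≤ part s G :=
  Nat.le_of_dvd (part_pos hs) (part_subgroup_dvd s C)

/-- Either the subgroup has full `s`-part or it loses at least a factor `p`. -/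
theorem part_dichotomy {s : Finset ℕ} (hs : ∀ r ∈ s, r.Prime) {p : ℕ} (hp : ∀ r ∈ s, p ≤ r)
    (C : Subgroup G) :
    (∀ r ∈ s, (Nat.card C).factorization r = (Nat.card G).factorization r) ∨
      p * part s C ≤ part s G := by
  by_cases h : ∀ r ∈ s, (Nat.card C).factorization r = (Nat.card G).factorization r
  · exact Or.inl h
  right
  push Not at h
  obtain ⟨r, hr, hne⟩ := h
  have hlt := lt_of_le_of_ne (factorization_le C r) hne
  rw [part, part, ← Finset.mul_prod_erase s _ hr, ← Finset.mul_prod_erase s _ hr, ← mul_assoc]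
  refine Nat.mul_le_mul ?_ (Finset.prod_le_prod' fun u hu =>
    Nat.pow_le_pow_right (hs u (Finset.mem_of_mem_erase hu)).pos (factorization_le C u))
  calc p * r ^ (Nat.card C).factorization r
      ≤ r * r ^ (Nat.card C).factorization r := Nat.mul_le_mul_right _ (hp r hr)
    _ = r ^ ((Nat.card C).factorization r + 1) := (pow_succ' r _).symm
    _ ≤ _ := Nat.pow_le_pow_right (hs r hr).pos hlt

theorem coprime_card_index {s : Finset ℕ} (hs : ∀ r ∈ s, r.Prime) {H : Subgroup G}
    (hH : Nat.card H = part s G) : (Nat.card H).Coprime H.index := by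
  refine Nat.coprime_of_dvd fun r hr h1 h2 => ?_
  have hrs := mem_of_prime_dvd_part hs hr (hH ▸ h1)
  have hd : r ^ (Nat.card G).factorization r ∣ Nat.card H :=
    hH ▸ Finset.dvd_prod_of_mem (fun r => r ^ (Nat.card G).factorization r) hrs
  have := mul_dvd_mul hd h2
  rw [← pow_succ, card_mul_index] at this
  exact Nat.pow_succ_factorization_not_dvd Nat.card_pos.ne' hr this

theorem hall_conj {s : Finset ℕ} (hs : ∀ r ∈ s, r.Prime) {H K : Subgroup G}
    (hH : Nat.card H = part s G) (hK : Nat.card K = part s G)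
    (hHn : Group.IsNilpotent H) (hKn : Group.IsNilpotent K) :
    ∃ g : G, H.map (MulAut.conj g).toMonoidHom = K :=
  CfsgLib.Transfer.exists_map_conj_eq_of_nilpotent_hall H K hHn hKn (hH.trans hK.symm)
    (coprime_card_index hs hH)

theorem hasNilHall_singleton {q : ℕ} (hq : q.Prime) : HasNilHall {q} G := by
  have := Fact.mk hq
  obtain ⟨P⟩ : Nonempty (Sylow q G) := Sylow.nonempty
  exact ⟨P, by rw [part_singleton, P.card_eq_multiplicity], P.isPGroup'.isNilpotent⟩

theorem hasNilHall_empty : HasNilHall ∅ G :=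
  ⟨⊥, by simp [part], inferInstance⟩

/-- A nilpotent Hall subgroup centralised by a full `q`-subgroup extends. -/
theorem combine {s : Finset ℕ} (hs : ∀ r ∈ s, r.Prime) {q : ℕ} (hq : q.Prime) (hqs : q ∉ s)
    {H R : Subgroup G} (hH : Nat.card H = part s G) (hHn : Group.IsNilpotent H)
    (hR : Nat.card R = q ^ (Nat.card G).factorization q)
    (hcen : R ≤ centralizer (H : Set G)) : HasNilHall (insert q s) G := by
  have := Fact.mk hq
  have hRn : Group.IsNilpotent R := (IsPGroup.of_card hR).isNilpotent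
  refine ⟨R ⊔ H, ?_, CfsgLib.OddOrder.isNilpotent_sup_of_commute hRn hHn hcen⟩
  have hdis : R ⊓ H = ⊥ := by
    refine CfsgLib.Coprime.inf_eq_bot_of_coprime ?_
    rw [hR, hH]
    refine Nat.Coprime.pow_left _ (hq.coprime_iff_not_dvd.2 fun hd => hqs ?_)
    exact mem_of_prime_dvd_part hs hq hd
  have hle : R ≤ normalizer (H : Set G) := hcen.trans (centralizer_le_normalizer _)
  rw [part_insert hqs, ← hR, ← hH, sup_comm, CfsgLib.Coprime.card_sup_eq hle (inf_comm R H ▸ hdis),
    mul_comm]

/-- A subgroup with full `q`-part contains a Sylow subgroup of `G`. -/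
theorem exists_sylow_le {q : ℕ} [Fact q.Prime] {C : Subgroup G}
    (h : (Nat.card C).factorization q = (Nat.card G).factorization q) :
    ∃ Q : Sylow q G, (Q : Subgroup G) ≤ C := by
  obtain ⟨T⟩ : Nonempty (Sylow q C) := Sylow.nonempty
  refine ⟨Sylow.ofCard ((T : Subgroup C).map C.subtype) ?_, ?_⟩
  · rw [card_map_of_injective C.subtype_injective, T.card_eq_multiplicity, h]
  · rw [Sylow.coe_ofCard]
    exact map_subtype_le _

theorem factorization_eq_of_sylow_le {q : ℕ} [Fact q.Prime] {C : Subgroup G} {Q : Sylow q G}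
    (h : (Q : Subgroup G) ≤ C) :
    (Nat.card C).factorization q = (Nat.card G).factorization q := by
  refine le_antisymm (factorization_le C q) ?_
  rw [← Nat.Prime.pow_dvd_iff_le_factorization Fact.out Nat.card_pos.ne',
    ← Q.card_eq_multiplicity]
  exact card_dvd_of_le h

/-- Frattini argument: with all `G`-conjugates of `X ≤ K` conjugate in `K`, the normalizer of `X`
contains a Sylow `q`-subgroup whenever `q` is prime to the order of `K`. -/
theorem exists_sylow_le_normalizer {q : ℕ} [Fact q.Prime] (K X : Subgroup G) [K.Normal]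
    (hK : ¬ q ∣ Nat.card K)
    (hconj : ∀ g : G, ∃ k ∈ K, X.map (MulAut.conj g).toMonoidHom = X.map (MulAut.conj k).toMonoidHom) :
    ∃ Q : Sylow q G, (Q : Subgroup G) ≤ normalizer (X : Set G) := by
  have htop : normalizer (X : Set G) ⊔ K = ⊤ := by
    rw [eq_top_iff]
    intro g _
    obtain ⟨k, hk, he⟩ := hconj g
    have hn : k⁻¹ * g ∈ normalizer (X : Set G) := by
      rw [mem_normalizer_iff_map_conj_eq]
      show X.map (MulAut.conj (k⁻¹ * g)).toMonoidHom = X
      rw [← CfsgLib.Transfer.map_conj_map_conj, he,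
        CfsgLib.Transfer.map_conj_map_conj, inv_mul_cancel]
      ext x
      simp
    have := mul_mem (mem_sup_right (S := normalizer (X : Set G)) hk) (mem_sup_left (T := K) hn)
    rwa [mul_inv_cancel_left] at this
  apply exists_sylow_le
  refine le_antisymm (factorization_le _ q) ?_
  have h1 : K.relIndex (normalizer (X : Set G)) = K.index := by
    rw [← relIndex_sup_right (H := normalizer (X : Set G)) (K := K), htop, relIndex_top_right]
  have hd : K.index ∣ Nat.card (normalizer (X : Set G)) := by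
    rw [← h1]
    exact relIndex_dvd_card _ _
  rw [← Nat.Prime.pow_dvd_iff_le_factorization Fact.out Nat.card_pos.ne']
  refine Dvd.dvd.trans ?_ hd
  have h2 : q ^ (Nat.card G).factorization q ∣ Nat.card K * K.index := by
    rw [card_mul_index]
    exact Nat.ordProj_dvd _ _
  exact (Nat.Coprime.pow_left _ ((Fact.out : q.Prime).coprime_iff_not_dvd.2 hK)).dvd_of_dvd_mul_left h2

/-- If the centraliser of `R` contains a Sylow `q`-subgroup, then `q`-elements normalizing `R`
centralise it. -/
theorem mem_centralizer_of_full {q : ℕ} [Fact q.Prime] {R : Subgroup G} {y : G}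
    (hC : ∃ Q : Sylow q G, (Q : Subgroup G) ≤ centralizer (R : Set G))
    (hy : y ∈ normalizer (R : Set G)) (hyq : ∃ k, orderOf y = q ^ k) :
    y ∈ centralizer (R : Set G) := by
  obtain ⟨Q, hQ⟩ := hC
  set N := normalizer (R : Set G)
  have hCN : centralizer (R : Set G) ≤ N := centralizer_le_normalizer _
  have hn : ((centralizer (R : Set G)).subgroupOf N).Normal := by
    refine ⟨fun c hc n => ?_⟩
    rw [mem_subgroupOf] at hc ⊢
    intro x hx
    have hx' : (n : G)⁻¹ * x * n ∈ R := by
      simpa using (mem_normalizer_iff.1 (inv_mem n.2) x).1 hx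
    have h1 := hc _ hx'
    push_cast
    calc x * ((n : G) * c * (n : G)⁻¹) = (n : G) * (((n : G)⁻¹ * x * n) * c) * (n : G)⁻¹ := by group
      _ = (n : G) * (c * ((n : G)⁻¹ * x * n)) * (n : G)⁻¹ := by rw [h1]
      _ = (n : G) * c * (n : G)⁻¹ * x := by group
  have hidx : ¬ q ∣ ((centralizer (R : Set G)).subgroupOf N).index := fun hd => by
    refine Q.not_dvd_index (hd.trans ?_)
    exact (dvd_mul_right ((centralizer (R : Set G)).relIndex N) N.index).trans
      ((relIndex_mul_index hCN).dvd.trans (index_dvd_of_le hQ))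
  have h1 := ((centralizer (R : Set G)).subgroupOf N).pow_index_mem ⟨y, hy⟩
  obtain ⟨k, hk⟩ := hyq
  obtain ⟨u, hu⟩ := exists_pow_eq_self_of_coprime (x := (⟨y, hy⟩ : N))
    (n := ((centralizer (R : Set G)).subgroupOf N).index) (by
      rw [orderOf_mk, hk]
      exact (((Fact.out : q.Prime).coprime_iff_not_dvd.2 hidx).pow_left k).symm)
  have := hu ▸ pow_mem h1 u
  exact this

/-- A `q`-element normalizing `R₁` and centralising a subgroup of prime index `r` in it centralises
`R₁`, if `q` does not divide `r - 1` and `R₁` is an `r`-group. -/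
theorem centralizes_of_index_prime {q r : ℕ} [Fact q.Prime] [Fact r.Prime] (hqr : q ≠ r)
    (hdvd : ¬ q ∣ r - 1) {R R₁ : Subgroup G} (hR₁ : IsPGroup r R₁) (hle : R ≤ R₁)
    (hidx : R.relIndex R₁ = r) {y : G} (hy : y ∈ normalizer (R₁ : Set G))
    (hyq : ∃ k, orderOf y = q ^ k) (hyR : y ∈ centralizer (R : Set G)) :
    y ∈ centralizer (R₁ : Set G) := by
  classical
  let S : Subgroup R₁ := R.subgroupOf R₁
  have hS : S.index = r := hidx
  let f : R₁ → R₁ := fun x => ⟨y * x * y⁻¹, (mem_normalizer_iff.1 hy x).1 x.2⟩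
  have hf : ∀ a b : R₁, f (a * b) = f a * f b := fun a b => Subtype.ext (by
    simp only [f, Subgroup.coe_mul]; group)
  let A := zpowers y
  have hA : IsPGroup q A := by
    obtain ⟨k, hk⟩ := hyq
    exact IsPGroup.of_card (n := k) (by rw [Nat.card_zpowers, hk])
  have hAn : ∀ a : A, (a : G) ∈ normalizer (R₁ : Set G) := fun a =>
    zpowers_le.2 hy a.2
  have hAc : ∀ a : A, (a : G) ∈ centralizer (R : Set G) := fun a => zpowers_le.2 hyR a.2
  let act : A → R₁ → R₁ := fun a x => ⟨(a : G) * x * (a : G)⁻¹, (mem_normalizer_iff.1 (hAn a) x).1 x.2⟩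
  have hfix : ∀ (a : A) (x : R₁), x ∈ S → act a x = x := fun a x hx => Subtype.ext (by
    show (a : G) * x * (a : G)⁻¹ = x
    rw [mul_inv_eq_iff_eq_mul]
    exact (hAc a (x : G) hx).symm)
  have hmul : ∀ (a : A) (x z : R₁), act a (x * z) = act a x * act a z := fun a x z => Subtype.ext (by
    simp only [act, Subgroup.coe_mul]; group)
  letI : MulAction A (R₁ ⧸ S) :=
    { smul := fun a => Quotient.lift (fun x => ((act a x : R₁) : R₁ ⧸ S)) fun x z h => by
        have h' : x⁻¹ * z ∈ S := QuotientGroup.leftRel_apply.1 h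
        refine QuotientGroup.eq.2 ?_
        have e : (act a x)⁻¹ * act a z = act a (x⁻¹ * z) := by
          have := hmul a x (x⁻¹ * z)
          rw [mul_inv_cancel_left] at this
          rw [this, inv_mul_cancel_left]
        rw [e, hfix a _ h']
        exact h'
      one_smul := fun c => by
        induction c using QuotientGroup.induction_on with
        | H x => exact congrArg _ (Subtype.ext (by simp [act]))
      mul_smul := fun a b c => by
        induction c using QuotientGroup.induction_on with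
        | H x => exact congrArg _ (Subtype.ext (by simp [act, mul_assoc])) }
  have hmod := hA.card_modEq_card_fixedPoints (R₁ ⧸ S)
  rw [← index_eq_card, hS] at hmod
  have h1 : ((1 : R₁) : R₁ ⧸ S) ∈ MulAction.fixedPoints A (R₁ ⧸ S) := fun a => by
    show ((act a 1 : R₁) : R₁ ⧸ S) = _
    rw [hfix a 1 (one_mem S)]
  obtain ⟨c, hc, hc1⟩ : ∃ c ∈ MulAction.fixedPoints A (R₁ ⧸ S), c ≠ ((1 : R₁) : R₁ ⧸ S) := by
    by_contra hno
    push Not at hno
    have hone : Nat.card (MulAction.fixedPoints A (R₁ ⧸ S)) = 1 := by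
      rw [Nat.card_eq_one_iff_unique]
      exact ⟨⟨fun a b => Subtype.ext ((hno a.1 a.2).trans (hno b.1 b.2).symm)⟩, ⟨⟨_, h1⟩⟩⟩
    rw [hone] at hmod
    exact hdvd ((Nat.modEq_iff_dvd' (Fact.out : r.Prime).one_lt.le).1 hmod.symm)
  induction c using QuotientGroup.induction_on with
  | H x =>
  have hxS : x ∉ S := fun h => hc1 (QuotientGroup.eq.2 (by simpa using inv_mem h))
  let a₀ : A := ⟨y, mem_zpowers y⟩
  have hd : x⁻¹ * act a₀ x ∈ S := QuotientGroup.eq.1 (hc a₀).symm
  obtain ⟨d, hdd⟩ : ∃ d : G, ((x⁻¹ * act a₀ x : R₁) : G) = d := ⟨_, rfl⟩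
  have hdR : d ∈ R := hdd ▸ hd
  have hyx : y * x * y⁻¹ = x * d := by
    rw [← hdd]
    simp [act, a₀]
  have hyd : y * d * y⁻¹ = d := mul_inv_eq_iff_eq_mul.2 (hyR d hdR).symm
  have hpow : ∀ n : ℕ, y ^ n * x * (y ^ n)⁻¹ = x * d ^ n := by
    intro n
    induction n with
    | zero => simp
    | succ n ih =>
      have hc' : y * d ^ n * y⁻¹ = d ^ n := by
        rw [← conj_pow, hyd]
      calc y ^ (n + 1) * x * (y ^ (n + 1))⁻¹ = y * (y ^ n * x * (y ^ n)⁻¹) * y⁻¹ := by
            rw [pow_succ' y n]; group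
        _ = (y * x * y⁻¹) * (y * d ^ n * y⁻¹) := by rw [ih]; group
        _ = x * d ^ (n + 1) := by rw [hyx, hc', pow_succ', mul_assoc]
  have hd1 : d = 1 := by
    have e := hpow (orderOf y)
    rw [pow_orderOf_eq_one, one_mul, inv_one, mul_one, left_eq_mul] at e
    obtain ⟨i, hi⟩ := IsPGroup.iff_orderOf.1 hR₁ ⟨d, hle hdR⟩
    rw [orderOf_mk] at hi
    obtain ⟨k, hk⟩ := hyq
    refine orderOf_eq_one_iff.1 (Nat.eq_one_of_dvd_coprimes ?_
      ((orderOf_dvd_of_pow_eq_one e).trans hk.dvd) hi.dvd)
    exact Nat.Coprime.pow k i ((Nat.coprime_primes Fact.out Fact.out).2 hqr)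
  rw [hd1, mul_one] at hyx
  -- the fixed points form a subgroup properly containing one of prime index
  have hsup : R₁ ⊓ centralizer ({y} : Set G) = R₁ := by
    have hRF : R ≤ R₁ ⊓ centralizer ({y} : Set G) := le_inf hle fun z hz =>
      mem_centralizer_singleton_iff.2 (hyR z hz)
    have hxF : (x : G) ∈ R₁ ⊓ centralizer ({y} : Set G) :=
      ⟨x.2, mem_centralizer_singleton_iff.2 (mul_inv_eq_iff_eq_mul.1 hyx).symm⟩
    have hm := relIndex_mul_relIndex R (R₁ ⊓ centralizer ({y} : Set G)) R₁ hRF inf_le_left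
    rw [hidx] at hm
    rcases (Nat.dvd_prime Fact.out).1 ⟨_, (hm.symm.trans (mul_comm _ _))⟩ with h | h
    · exact le_antisymm inf_le_left (relIndex_eq_one.1 h)
    · rw [h] at hm
      have h' : R.relIndex (R₁ ⊓ centralizer ({y} : Set G)) = 1 := by
        have := (Fact.out : r.Prime).pos
        nlinarith
      exact absurd (relIndex_eq_one.1 h' hxF) hxS
  intro z hz
  exact mem_centralizer_singleton_iff.1 (hsup.ge hz).2

end CfsgLib.PiClasses73
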